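import Cfsg.Agent.Lib.CyclicSylowInter.KindFacts.Build
import Cfsg.Agent.Lib.GoldSFour.PSLTwo
import Cfsg.Agent.Lib.Forms.KleinPSL
import Cfsg.Agent.Lib.J1FromOrder.Solvable
import Cfsg.Agent.Lib.J1FromOrder.Dihedral

/-!
# `PSL₂(q)`, `q` congruent to `3`, `5` modulo `8`, and the first Janko group
-/

set_option autoImplicit false
set_option linter.style.haveILetI false
set_option linter.unusedSectionVars false

namespace Cfsg.Agent.CyclicSylowInter.KindFactsOthers

open Subgroup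

universe u

variable {G : Type*} [Group G]

theorem comm_of_sq_one [Finite G] {S : Subgroup G} (h : ∀ x ∈ S, x * x = 1) :
    ∀ a ∈ S, ∀ b ∈ S, a * b = b * a ∧ a * a = 1 :=
  fun a ha b hb => ⟨J1FromOrder.comm_exp2 h a ha b hb, h a ha⟩

theorem sq_one_of_noFour (h : GoldSFour.NoFour G) (S : Sylow 2 G) :
    ∀ x ∈ (S : Subgroup G), x * x = 1 := by
  intro x hx
  obtain ⟨k, hk⟩ := S.2 ⟨x, hx⟩
  have hk' : x ^ 2 ^ k = 1 := congrArg Subtype.val hk
  have key : ∀ k : ℕ, ∀ z : G, z ^ 2 ^ k = 1 → z ^ 2 = 1 := by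
    intro k
    induction k with
    | zero =>
      intro z hz
      rw [pow_zero, pow_one] at hz
      rw [hz, one_pow]
    | succ k ih =>
      intro z hz
      refine h z ?_
      have := ih (z ^ 2) (by rw [← pow_mul, ← pow_succ']; exact hz)
      rwa [← pow_mul] at this
  rw [← sq]
  exact key k x hk'

theorem transfer_exp {L : Type*} [Group L] (f : L ≃* G)
    (h : ∀ S : Sylow 2 G, ∀ x ∈ (S : Subgroup G), x * x = 1) (S : Sylow 2 L) :
    ∀ x ∈ (S : Subgroup L), x * x = 1 := by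
  intro x hx
  refine f.injective ?_
  rw [map_mul, map_one]
  exact h (S.comapOfInjective f.symm.toMonoidHom f.symm.injective (by simp)) _
    (by show f.symm (f x) ∈ (S : Subgroup L); rwa [f.symm_apply_apply])

theorem psl_facts {F : Type} [Field F] [Fintype F]
    (hmod : Fintype.card F % 8 = 3 ∨ Fintype.card F % 8 = 5) {L : Type u} [Group L] [Finite L]
    (f : L ≃* Matrix.ProjectiveSpecialLinearGroup (Fin 2) F) :
    OneClass L ∧ ∀ S : Sylow 2 L, ∀ a ∈ (S : Subgroup L), ∀ b ∈ (S : Subgroup L),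
      a * b = b * a ∧ a * a = 1 := by
  have h2 : (2 : F) ≠ 0 := Classical.SylowSL2.two_ne_zero_of_odd (Nat.odd_iff.2 (by omega))
  refine ⟨OneClass.of_equiv f.symm (fun x y => Forms.KleinPSL.involutions_isConj h2 x y), fun S => ?_⟩
  exact comm_of_sq_one (transfer_exp f (fun T => sq_one_of_noFour (GoldSFour.noFour_of_mod hmod) T) S)

theorem j1_facts {L : Type u} [Group L] [Finite L] (h : Cfsg.IsJ1 L) :
    OneClass L ∧ ∀ S : Sylow 2 L, ∀ a ∈ (S : Subgroup L), ∀ b ∈ (S : Subgroup L),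
      a * b = b * a ∧ a * a = 1 := by
  haveI : Fact (Nat.Prime 2) := ⟨Nat.prime_two⟩
  obtain ⟨hs, hc⟩ := h
  haveI := hs
  obtain ⟨S₀, hS₀ | ⟨⟨e⟩⟩⟩ := J1FromOrder.sylow_shape (G := L) hc
  swap
  · exact (J1FromOrder.not_dihedral hc S₀ e).elim
  refine ⟨oneClass_of_sylow S₀ fun x y hx hy hxo hyo => ?_, fun S => ?_⟩
  · obtain ⟨r, -, hr⟩ := (J1FromOrder.transitive hc S₀ hS₀).2 x hx (orderOf_two_iff.1 hxo).2 y hy
      (orderOf_two_iff.1 hyo).2
    exact isConj_iff.2 ⟨r, hr⟩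
  · refine comm_of_sq_one fun x hx => ?_
    obtain ⟨g, rfl⟩ := MulAction.exists_smul_eq L S₀ S
    have h1 := hS₀ _ (mem_smul_sylow.1 hx)
    calc x * x = g * ((g⁻¹ * x * g) * (g⁻¹ * x * g)) * g⁻¹ := by group
      _ = 1 := by rw [h1]; group

end Cfsg.Agent.CyclicSylowInter.KindFactsOthers
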