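import Cfsg.Agent.Lib.Suzuki.Field

/-!
# No invariant pairing between the layers of the Suzuki 2-group

A biadditive `f : F → F → ℤ/2` with `f (t x) (t θ(t) b) = f x b` would make `t ↦ (t θ(t))⁻¹` additive.
-/

set_option autoImplicit false
set_option linter.style.haveILetI false

namespace Cfsg.Agent.CyclicSylowInter.SuzukiPairing

open Cfsg.Agent.Suzuki Polynomial

variable {F : Type*} [Field F] [Fintype F] [CharP F 2] {m : ℕ}

/-- The map `t ↦ (t θ(t))⁻¹` is not additive for `q ≥ 32`. -/
theorem not_additive (hm : 2 ≤ m) (hF : Fintype.card F = 2 ^ (2 * m + 1))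
    (hadd : ∀ t : F, ((t + 1) * theta F m (t + 1))⁻¹ = (t * theta F m t)⁻¹ + 1) : False := by
  classical
  set N := 2 ^ (m + 1) with hN
  have h8 : 8 ≤ N := le_trans (by norm_num) (Nat.pow_le_pow_right two_pos (show 3 ≤ m + 1 by omega))
  let P : F[X] := 1 + X + X ^ N + X ^ (N + 1) + X ^ (N + 2) + X ^ (2 * N + 1) + X ^ (2 * N + 2)
  have hP0 : P ≠ 0 := fun h => by
    have h1 := congrArg (Polynomial.eval 0) h
    simp [P, show N ≠ 0 by omega] at h1
  have hdeg : P.natDegree ≤ 2 * N + 2 := by
    have h1 : ∀ k, k ≤ 2 * N + 2 → (X ^ k : F[X]).natDegree ≤ 2 * N + 2 := fun k hk => by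
      rw [natDegree_X_pow]; exact hk
    simp only [P]
    refine natDegree_add_le_of_degree_le (natDegree_add_le_of_degree_le (natDegree_add_le_of_degree_le
      (natDegree_add_le_of_degree_le (natDegree_add_le_of_degree_le
        (natDegree_add_le_of_degree_le ?_ ?_) ?_) ?_) ?_) ?_) ?_
    · simp
    · rw [natDegree_X]; omega
    all_goals exact h1 _ (by omega)
  have hroot : ∀ t : F, t ≠ 0 → t ≠ 1 → P.eval t = 0 := by
    intro t h0 h1
    have ht1 : t + 1 ≠ 0 := fun e => h1 (CharTwo.add_eq_zero.1 e)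
    have hu0 : theta F m t ≠ 0 := (_root_.map_ne_zero _).2 h0
    have hu1 : theta F m t + 1 ≠ 0 := by
      rw [← map_one (theta F m), ← map_add]; exact (_root_.map_ne_zero _).2 ht1
    have h := hadd t
    rw [map_add, map_one] at h
    have ha : (t + 1) * (theta F m t + 1) ≠ 0 := mul_ne_zero ht1 hu1
    have hb : t * theta F m t ≠ 0 := mul_ne_zero h0 hu0
    have h' : t * theta F m t = (t + 1) * (theta F m t + 1) +
        (t + 1) * (theta F m t + 1) * (t * theta F m t) := by
      have e := congrArg (fun z => (t + 1) * (theta F m t + 1) * (t * theta F m t) * z) h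
      simp only [mul_add ((t + 1) * (theta F m t + 1) * (t * theta F m t)),
        mul_inv_cancel_right₀ hb, mul_one] at e
      rw [mul_comm ((t + 1) * (theta F m t + 1)) (t * theta F m t), mul_inv_cancel_right₀ ha] at e
      rwa [mul_comm (t * theta F m t) ((t + 1) * (theta F m t + 1))] at e
    simp only [P, eval_add, eval_one, eval_X, eval_pow]
    rw [show (2 * N + 1) = N + N + 1 by ring, show (2 * N + 2) = N + N + 2 by ring]
    simp only [pow_add, pow_one]
    rw [theta_def, ← hN] at h'
    linear_combination -h'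
  have hsub : (Finset.univ.erase (0 : F)).erase 1 ⊆ P.roots.toFinset := by
    intro t ht
    simp only [Finset.mem_erase, Finset.mem_univ, and_true] at ht
    rw [Multiset.mem_toFinset, mem_roots hP0, IsRoot.def]
    exact hroot t ht.2 ht.1
  have hc := (Finset.card_le_card hsub).trans ((Multiset.toFinset_card_le _).trans (P.card_roots'.trans hdeg))
  rw [Finset.card_erase_of_mem (by simp), Finset.card_erase_of_mem (Finset.mem_univ _),
    Finset.card_univ, hF] at hc
  have e : 2 ^ (2 * m + 1) = 2 ^ (m + 1) * 2 ^ m := by rw [← pow_add]; ring_nf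
  rw [e, ← hN] at hc
  have h4 : 4 ≤ 2 ^ m := le_trans (by norm_num) (Nat.pow_le_pow_right two_pos hm)
  have := Nat.mul_le_mul_left N h4
  omega

theorem eq_zero (hm : 2 ≤ m) (hF : Fintype.card F = 2 ^ (2 * m + 1)) (f : F → F → ZMod 2)
    (hl : ∀ x y b, f (x + y) b = f x b + f y b) (hr : ∀ x b c, f x (b + c) = f x b + f x c)
    (hinv : ∀ s : F, s ≠ 0 → ∀ x b, f (theta F m s * x) (theta F m s * s ^ 2 * b) = f x b)
    (x b : F) : f x b = 0 := by
  have hscale : ∀ t : F, t ≠ 0 → ∀ x b, f (t * x) (t * theta F m t * b) = f x b := by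
    intro t ht x b
    obtain ⟨s, rfl⟩ := exists_theta hF t
    have hs : s ≠ 0 := fun e => ht (by rw [e, map_zero])
    rw [theta_theta hF]
    exact hinv s hs x b
  have h0 : ∀ b, f 0 b = 0 := fun b => add_left_cancel (a := f 0 b) (by rw [← hl, add_zero, add_zero])
  have h0' : ∀ x, f x 0 = 0 := fun x => add_left_cancel (a := f x 0) (by rw [← hr, add_zero, add_zero])
  have hh : ∀ t b, f t b = f 1 (b * (t * theta F m t)⁻¹) := by
    intro t b
    by_cases ht : t = 0
    · subst ht
      rw [h0, zero_mul, _root_.inv_zero, mul_zero, h0']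
    · have hne : t * theta F m t ≠ 0 := mul_ne_zero ht ((_root_.map_ne_zero _).2 ht)
      have := hscale t ht 1 (b * (t * theta F m t)⁻¹)
      rwa [mul_one, mul_left_comm, mul_inv_cancel₀ hne, mul_one] at this
  by_cases hlam : ∀ b, f 1 b = 0
  · rw [hh]; exact hlam _
  push Not at hlam
  obtain ⟨c, hc⟩ := hlam
  refine (not_additive hm hF fun t => ?_).elim
  by_contra hne
  set δ := ((t + 1) * theta F m (t + 1))⁻¹ + ((t * theta F m t)⁻¹ + 1) with hδ
  have hd : δ ≠ 0 := fun e => hne (CharTwo.add_eq_zero.1 e)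
  refine hc ?_
  have key : ∀ b, f 1 (b * δ) = 0 := by
    intro b
    rw [hδ, mul_add, mul_add, hr, hr, ← hh, ← hh, mul_one, hl]
    rw [← two_mul, show (2 : ZMod 2) = 0 from rfl, zero_mul]
  simpa [hd] using key (c * δ⁻¹)

end Cfsg.Agent.CyclicSylowInter.SuzukiPairing
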