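import Cfsg.Agent.Lib.CyclicSylowInter.KindFacts.Build
import Cfsg.Agent.Lib.CyclicSylowInter.KindFacts.Pairing
import Cfsg.Agent.Lib.Suzuki.Local

/-!
# The facts on the Suzuki groups: the translations
-/

set_option autoImplicit false
set_option linter.style.haveILetI false
set_option linter.unusedSectionVars false

namespace Cfsg.Agent.CyclicSylowInter.KindFactsSuzuki

open MulAction Cfsg.Agent.Suzuki
open scoped Pointwise

variable {F : Type*} [Field F] [Fintype F] [CharP F 2] {m : ℕ}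
variable (hm : 1 ≤ m) (hF : Fintype.card F = 2 ^ (2 * m + 1))

local notation "SzF" => Cfsg.Sz F m

include hF

theorem tr_sq (a b : F) : (tr hF a b * tr hF a b : SzF) = tr hF 0 (a ^ 2 ^ (m + 1) * a) := by
  rw [tr_mul]
  congr 1 <;> simp [CharTwo.add_self_eq_zero]

theorem tr_eq_one {a b : F} : (tr hF a b : SzF) = 1 ↔ a = 0 ∧ b = 0 := by
  refine ⟨fun h => tr_injective hF (h.trans (tr_zero hF).symm), ?_⟩
  rintro ⟨rfl, rfl⟩
  exact tr_zero hF

theorem tr_sq_one {a b : F} (h : (tr hF a b * tr hF a b : SzF) = 1) : a = 0 := by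
  rw [tr_sq, tr_eq_one] at h
  rcases mul_eq_zero.1 h.2 with h1 | h1
  · exact eq_zero_of_pow_eq_zero h1
  · exact h1

theorem tr_central (b c d : F) : Commute (tr hF 0 b : SzF) (tr hF c d) := by
  show _ * _ = _ * _
  rw [tr_mul, tr_mul]
  congr 1 <;> simp [add_comm]

theorem invol_iff {a b : F} : orderOf (tr hF a b : SzF) = 2 ↔ a = 0 ∧ b ≠ 0 := by
  constructor
  · intro h
    obtain ⟨h1, h2⟩ := orderOf_two_iff.1 h
    obtain rfl := tr_sq_one hF h1
    exact ⟨rfl, fun e => h2 ((tr_eq_one hF).2 ⟨rfl, e⟩)⟩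
  · rintro ⟨rfl, hb⟩
    exact orderOf_center_tr hF hb

theorem odd_tor (s : Fˣ) : Odd (orderOf (tor hF s : SzF)) := by
  classical
  have h1 : orderOf (tor hF s : SzF) ∣ Fintype.card Fˣ := by
    let φ : Fˣ →* SzF := { toFun := tor hF, map_one' := tor_one hF, map_mul' := fun a b => tor_mul hF a b }
    exact (orderOf_map_dvd φ s).trans orderOf_dvd_card
  refine Odd.of_dvd_nat ?_ h1
  rw [Fintype.card_units, hF]
  exact Nat.Even.sub_odd (Nat.one_le_two_pow) (even_two.pow_of_ne_zero (by omega)) odd_one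

theorem theta_mul_sq_injective : Function.Injective (fun a : F => theta F m a * a ^ 2) := by
  intro p r e
  have e' : theta F m p * p ^ 2 = theta F m r * r ^ 2 := e
  by_cases hr : r = 0
  · subst hr
    rw [map_zero, zero_mul, mul_eq_zero, map_eq_zero, pow_eq_zero_iff two_ne_zero, or_self] at e'
    exact e'
  · have h0 : theta F m r ≠ 0 := (map_ne_zero _).2 hr
    refine (div_eq_one_iff_eq hr).1 (eq_one_of_theta_mul_sq hF (m := m) ?_)
    rw [map_div₀]
    field_simp
    linear_combination e'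

include hm

theorem tiModel (S : Sylow 2 SzF) (hS : (S : Subgroup SzF) = U hF) :
    TIModel S (2 * m + 1) 2 := by
  haveI : Fact (Nat.Prime 2) := ⟨Nat.prime_two⟩
  have hmem : ∀ x, x ∈ (S : Subgroup SzF) ↔ ∃ a b, x = tr hF a b := fun x => by rw [hS]; rfl
  have htr : ∀ a b, tr hF a b ∈ (S : Subgroup SzF) := fun a b => (hmem _).2 ⟨a, b, rfl⟩
  have hnorm : ∀ g : SzF, g • infty (F := F) m = infty m →
      g ∈ Subgroup.normalizer ((S : Subgroup SzF) : Set SzF) := by
    intro g hg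
    rw [hS, normalizer_U hm hF]
    exact mem_stabilizer_iff.2 hg
  have hfix : ∀ g : SzF, g • infty (F := F) m = infty m → g • S = S := fun g hg =>
    Sylow.smul_eq_iff_mem_normalizer.2 (hnorm g hg)
  refine ⟨by omega, Or.inr (Or.inl rfl), ?_, ?_, ?_, ?_, ?_, ?_, ?_, ?_, fun _ => ⟨m, rfl⟩, ?_, ?_, ?_⟩
  · intro T x hx hxS hxT
    obtain ⟨g, rfl⟩ := MulAction.exists_smul_eq SzF S T
    obtain ⟨a, b, rfl⟩ := (hmem _).1 hxS
    obtain ⟨-, hb⟩ := (invol_iff hF).1 hx
    obtain ⟨c, d, hcd⟩ := (hmem _).1 (mem_smul_sylow.1 hxT)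
    refine hfix g (eq_infty_of_tr_fixed hF (a := a) (b := b) (Or.inr hb) ?_)
    have : tr hF a b = g * tr hF c d * g⁻¹ := by rw [← hcd]; group
    rw [this, mul_smul, mul_smul, inv_smul_smul, tr_smul_infty]
  · refine ⟨sw hF • S, fun T => ?_⟩
    obtain ⟨g, rfl⟩ := MulAction.exists_smul_eq SzF S T
    rcases bruhat hm hF g with ⟨a, b, s, rfl⟩ | ⟨a, b, c, d, s, rfl⟩
    · exact Or.inl (hfix _ (by rw [mul_smul, tor_smul_infty, tr_smul_infty]))
    · refine Or.inr ⟨tr hF a b, htr a b, ?_⟩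
      rw [mul_smul, mul_smul, hfix _ (by rw [mul_smul, tor_smul_infty, tr_smul_infty])]
  · rw [hS, card_U hF, hF]
  · classical
    have h1 : {x : SzF | x ∈ (S : Subgroup SzF) ∧ orderOf x = 2} =
        (fun b : F => (tr hF 0 b : SzF)) '' ({0}ᶜ : Set F) := by
      ext x
      rw [Set.mem_image]
      constructor
      · rintro ⟨hx, hxo⟩
        obtain ⟨a, b, rfl⟩ := (hmem _).1 hx
        obtain ⟨rfl, hb⟩ := (invol_iff hF).1 hxo
        exact ⟨b, hb, rfl⟩
      · rintro ⟨b, hb, rfl⟩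
        exact ⟨htr 0 b, (invol_iff hF).2 ⟨rfl, hb⟩⟩
    rw [h1, Set.ncard_image_of_injective _ (fun b b' e => (tr_injective hF e).2), Set.ncard_compl,
      Set.ncard_singleton, Nat.card_eq_fintype_card, hF]
  · intro x hx hxo s hs
    obtain ⟨a, b, rfl⟩ := (hmem _).1 hx
    obtain ⟨rfl, -⟩ := (invol_iff hF).1 hxo
    obtain ⟨c, d, rfl⟩ := (hmem _).1 hs
    exact tr_central hF b c d
  · intro x hx hc
    obtain ⟨a, b, rfl⟩ := (hmem _).1 hx
    have h : ut hF a b ∈ Subgroup.center (U (m := m) hF) := by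
      rw [Subgroup.mem_center_iff]
      rintro ⟨u, hu⟩
      exact Subtype.ext (hc u (hS ▸ hu)).symm.eq
    obtain rfl := center_eq_zero hm hF h
    rw [tr_sq, tr_eq_one]
    simp
  · intro x y hx hy hxo hyo
    obtain ⟨a, b, rfl⟩ := (hmem _).1 hx
    obtain ⟨rfl, hb⟩ := (invol_iff hF).1 hxo
    obtain ⟨a', b', rfl⟩ := (hmem _).1 hy
    obtain ⟨rfl, hb'⟩ := (invol_iff hF).1 hyo
    obtain ⟨s, hs⟩ := Finite.surjective_of_injective (theta_mul_sq_injective hF (m := m)) (b' / b)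
    have hs' : theta F m s * s ^ 2 = b' / b := hs
    have hs0 : s ≠ 0 := fun e => div_ne_zero hb' hb (by rw [← hs', e]; simp)
    refine ⟨tor hF (Units.mk0 s hs0), hnorm _ (tor_smul_infty hF _), ?_⟩
    rw [conj_tr, Units.val_mk0, mul_zero, ← theta_def, hs', div_mul_cancel₀ _ hb]
  · intro x hx
    obtain ⟨a, b, rfl⟩ := (hmem _).1 hx
    rw [tr_sq, tr_sq, tr_eq_one]
    simp
  · intro _ hn B h1 h2 h3 a ha w hw hw2
    obtain ⟨x, y, rfl⟩ := (hmem _).1 ha
    obtain ⟨x', c, rfl⟩ := (hmem _).1 hw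
    obtain rfl := tr_sq_one hF hw2
    have hwsq : ∀ c, (tr hF 0 c * tr hF 0 c : SzF) = 1 := fun c => by
      rw [tr_sq, tr_eq_one]; simp
    have hcen : ∀ y c, B (tr hF 0 y) (tr hF 0 c) = 0 := by
      intro y c
      have hi : Function.Injective (fun a : F => theta F m a * a) := by
        intro p r e
        have e' : theta F m p * p = theta F m r * r := e
        by_cases hr : r = 0
        · subst hr
          rw [mul_zero, mul_eq_zero, map_eq_zero, or_self] at e'
          exact e'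
        · have h0 : theta F m r ≠ 0 := (map_ne_zero _).2 hr
          refine (div_eq_one_iff_eq hr).1 (eq_one_of_theta_mul hF (m := m) ?_)
          rw [map_div₀]
          field_simp
          linear_combination e'
      obtain ⟨r, hr⟩ := Finite.surjective_of_injective hi y
      have hr' : r ^ 2 ^ (m + 1) * r = y := by rw [← theta_def]; exact hr
      rw [← hr', ← tr_sq hF r 0, h1 _ (htr r 0) _ (htr r 0) _ (htr 0 c) (hwsq c), ← two_mul,
        show (2 : ZMod 2) = 0 from rfl, zero_mul]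
    have hsplit : ∀ x y c, B (tr hF x y) (tr hF 0 c) = B (tr hF x 0) (tr hF 0 c) := by
      intro x y c
      have e : (tr hF x 0 * tr hF 0 y : SzF) = tr hF x y := by rw [tr_mul]; simp
      rw [← e, h1 _ (htr x 0) _ (htr 0 y) _ (htr 0 c) (hwsq c), hcen, add_zero]
    rw [hsplit]
    refine SuzukiPairing.eq_zero (m := m) (by omega) hF (fun x c => B (tr hF x 0) (tr hF 0 c))
      (fun p r c => ?_) (fun p c d => ?_) (fun s hs p d => ?_) x c
    · show B (tr hF (p + r) 0) _ = _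
      rw [← hsplit (p + r) (0 + 0 + p ^ 2 ^ (m + 1) * r), ← tr_mul,
        h1 _ (htr p 0) _ (htr r 0) _ (htr 0 c) (hwsq c)]
    · show B _ (tr hF 0 (c + d)) = _
      rw [← h2 _ (htr p 0) _ (htr 0 c) _ (htr 0 d) (hwsq c) (hwsq d), tr_mul]
      simp
    · show B (tr hF (theta F m s * p) 0) (tr hF 0 (theta F m s * s ^ 2 * d)) = _
      have h := h3 _ (hnorm _ (tor_smul_infty hF (Units.mk0 s hs))) (odd_tor hF _) _ (htr p 0) _
        (htr 0 d) (hwsq d)
      rw [conj_tr, conj_tr, Units.val_mk0, mul_zero, mul_zero, ← theta_def] at h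
      exact h
  · refine ⟨sw hF • S, fun c => ?_⟩
    have h : sw hF ∈ stabilizer SzF (infty (F := F) m) := by
      rw [← normalizer_U hm hF, ← hS]
      exact Sylow.smul_eq_iff_mem_normalizer.1 c
    rw [mem_stabilizer_iff, sw_smul_infty] at h
    exact point_ne_infty 0 0 h
  · classical
    obtain ⟨g, hg⟩ := IsCyclic.exists_generator (α := Fˣ)
    let φ : Fˣ →* SzF := { toFun := tor hF, map_one' := tor_one hF, map_mul' := fun a b => tor_mul hF a b }
    refine ⟨tor hF g, hnorm _ (tor_smul_infty hF _), odd_tor hF g, fun x y hx hy hxo hyo => ?_,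
      fun h => absurd h (by norm_num)⟩
    obtain ⟨a, b, rfl⟩ := (hmem _).1 hx
    obtain ⟨rfl, hb⟩ := (invol_iff hF).1 hxo
    obtain ⟨a', b', rfl⟩ := (hmem _).1 hy
    obtain ⟨rfl, hb'⟩ := (invol_iff hF).1 hyo
    obtain ⟨s, hs⟩ := Finite.surjective_of_injective (theta_mul_sq_injective hF (m := m)) (b' / b)
    have hs' : theta F m s * s ^ 2 = b' / b := hs
    have hs0 : s ≠ 0 := fun e => div_ne_zero hb' hb (by rw [← hs', e]; simp)
    obtain ⟨j, hj⟩ := (mem_powers_iff_mem_zpowers).2 (hg (Units.mk0 s hs0))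
    have hj' : g ^ j = Units.mk0 s hs0 := hj
    refine ⟨j, ?_⟩
    rw [show tor hF g ^ j = tor hF (Units.mk0 s hs0) by rw [← hj']; exact (map_pow φ g j).symm,
      conj_tr, Units.val_mk0, mul_zero, ← theta_def, hs', div_mul_cancel₀ _ hb]

theorem exists_model : ∃ S : Sylow 2 SzF, TIModel S (2 * m + 1) 2 := by
  obtain ⟨S, hS⟩ := exists_sylow hm hF
  exact ⟨S, tiModel hm hF S hS⟩

end Cfsg.Agent.CyclicSylowInter.KindFactsSuzuki
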