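import Cfsg.Agent.Lib.CyclicSylowInter.Defs

/-!
# The facts on the families: from one Sylow subgroup of a model to every Sylow subgroup of a copy
-/

set_option autoImplicit false
set_option linter.style.haveILetI false

namespace Cfsg.Agent.CyclicSylowInter

open Subgroup
open scoped Pointwise

universe u v

section Basic

variable {G : Type u} [Group G]

/-- Membership in a conjugate of a Sylow subgroup. -/
theorem mem_smul_sylow {g : G} {S : Sylow 2 G} {x : G} :
    x ∈ ((g • S : Sylow 2 G) : Subgroup G) ↔ g⁻¹ * x * g ∈ (S : Subgroup G) := by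
  rw [Sylow.coe_subgroup_smul, Subgroup.mem_pointwise_smul_iff_inv_smul_mem]
  simp [MulAut.smul_def]

theorem orderOf_two_iff {x : G} : orderOf x = 2 ↔ x * x = 1 ∧ x ≠ 1 := by
  haveI : Fact (Nat.Prime 2) := ⟨Nat.prime_two⟩
  rw [orderOf_eq_prime_iff, sq]

theorem conj_orderOf (g x : G) : orderOf (g * x * g⁻¹) = orderOf x :=
  MulEquiv.orderOf_eq (MulAut.conj g) x

theorem exists_sylow_mem [Finite G] {x : G} (hx : orderOf x = 2) :
    ∃ S : Sylow 2 G, x ∈ (S : Subgroup G) := by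
  haveI : Fact (Nat.Prime 2) := ⟨Nat.prime_two⟩
  obtain ⟨S, hS⟩ := (IsPGroup.of_card (G := zpowers x) (p := 2) (n := 1)
    (by rw [Nat.card_zpowers, hx, pow_one])).exists_le_sylow
  exact ⟨S, hS (mem_zpowers x)⟩

theorem mem_normalizer_of_conj [Finite G] {S : Subgroup G} {g : G}
    (h : ∀ x ∈ S, g * x * g⁻¹ ∈ S) : g ∈ normalizer (S : Set G) := by
  have heq : S.map (MulAut.conj g).toMonoidHom = S :=
    eq_of_le_of_card_ge (by rintro _ ⟨x, hx, rfl⟩; exact h x hx)
      (Subgroup.card_map_of_injective (MulAut.conj g).injective).ge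
  rw [mem_set_normalizer_iff]
  refine fun x => ⟨h x, fun hx => ?_⟩
  rw [SetLike.mem_coe, ← heq] at hx
  obtain ⟨y, hy, hy'⟩ := hx
  rwa [← (MulAut.conj g).injective hy']

/-- One class of involutions, from fusion inside one Sylow subgroup. -/
theorem oneClass_of_sylow [Finite G] (S₀ : Sylow 2 G)
    (h : ∀ x y : G, x ∈ (S₀ : Subgroup G) → y ∈ (S₀ : Subgroup G) → orderOf x = 2 → orderOf y = 2 →
      IsConj x y) : OneClass G := by
  haveI : Fact (Nat.Prime 2) := ⟨Nat.prime_two⟩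
  have key : ∀ x : G, orderOf x = 2 → ∃ y ∈ (S₀ : Subgroup G), orderOf y = 2 ∧ IsConj x y := by
    intro x hx
    obtain ⟨S, hS⟩ := exists_sylow_mem hx
    obtain ⟨g, rfl⟩ := MulAction.exists_smul_eq G S S₀
    exact ⟨g * x * g⁻¹, mem_smul_sylow.2 (by simpa [mul_assoc] using hS), by rw [conj_orderOf, hx],
      isConj_iff.2 ⟨g, rfl⟩⟩
  intro x y hx hy
  obtain ⟨a, ha, hao, hxa⟩ := key x hx
  obtain ⟨b, hb, hbo, hyb⟩ := key y hy
  exact (hxa.trans (h a b ha hb hao hbo)).trans hyb.symm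

end Basic

/-- The properties of one Sylow subgroup of a model from which all the facts follow. -/
structure TIModel {M : Type u} [Group M] (S : Sylow 2 M) (n i : ℕ) : Prop where
  two_le : 2 ≤ n
  i_mem : i = 1 ∨ i = 2 ∨ i = 3
  ti : ∀ (T : Sylow 2 M) (x : M), orderOf x = 2 → x ∈ (S : Subgroup M) → x ∈ (T : Subgroup M) → T = S
  bruhat : ∃ R : Sylow 2 M, ∀ T : Sylow 2 M, T = S ∨ ∃ u ∈ (S : Subgroup M), T = u • R
  card_sylow : Nat.card ↥(S : Subgroup M) = (2 ^ n) ^ i
  ncard_inv : {x : M | x ∈ (S : Subgroup M) ∧ orderOf x = 2}.ncard = 2 ^ n - 1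
  inv_central : ∀ x ∈ (S : Subgroup M), orderOf x = 2 → ∀ s ∈ (S : Subgroup M), Commute x s
  center_sq : ∀ x ∈ (S : Subgroup M), (∀ s ∈ (S : Subgroup M), Commute x s) → x * x = 1
  trans : ∀ x y : M, x ∈ (S : Subgroup M) → y ∈ (S : Subgroup M) → orderOf x = 2 → orderOf y = 2 →
    ∃ r ∈ normalizer ((S : Subgroup M) : Set M), r * x * r⁻¹ = y
  sq_sq : ∀ x ∈ (S : Subgroup M), x * x * (x * x) = 1
  suzuki_odd : i = 2 → Odd n
  suzuki_pairing : i = 2 → 4 ≤ n → ∀ B : M → M → ZMod 2,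
    (∀ a ∈ (S : Subgroup M), ∀ a' ∈ (S : Subgroup M), ∀ w ∈ (S : Subgroup M), w * w = 1 →
      B (a * a') w = B a w + B a' w) →
    (∀ a ∈ (S : Subgroup M), ∀ w ∈ (S : Subgroup M), ∀ w' ∈ (S : Subgroup M), w * w = 1 →
      w' * w' = 1 → B a (w * w') = B a w + B a w') →
    (∀ r ∈ normalizer ((S : Subgroup M) : Set M), Odd (orderOf r) → ∀ a ∈ (S : Subgroup M),
      ∀ w ∈ (S : Subgroup M), w * w = 1 → B (r * a * r⁻¹) (r * w * r⁻¹) = B a w) →
    ∀ a ∈ (S : Subgroup M), ∀ w ∈ (S : Subgroup M), w * w = 1 → B a w = 0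
  exists_other : ∃ T : Sylow 2 M, T ≠ S
  torus : ∃ τ ∈ normalizer ((S : Subgroup M) : Set M), Odd (orderOf τ) ∧
    (∀ x y : M, x ∈ (S : Subgroup M) → y ∈ (S : Subgroup M) → orderOf x = 2 → orderOf y = 2 →
      ∃ j : ℕ, τ ^ j * x * (τ ^ j)⁻¹ = y) ∧
    (i = 3 →
      (∀ H : Subgroup M, H ≤ (S : Subgroup M) → (∀ x ∈ (S : Subgroup M), x * x = 1 → x ∈ H) →
        (∀ x ∈ H, τ * x * τ⁻¹ ∈ H) → (∃ x ∈ H, x * x ≠ 1) → H = (S : Subgroup M)) ∧
      (∃ j : ℕ, τ ^ j ≠ 1 ∧ ∀ x ∈ (S : Subgroup M), orderOf x = 2 → Commute (τ ^ j) x) ∧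
      (∀ j : ℕ, τ ^ j ≠ 1 → (∀ x ∈ (S : Subgroup M), orderOf x = 2 → Commute (τ ^ j) x) →
        ∀ x ∈ (S : Subgroup M), Commute (τ ^ j) x → x * x = 1))

namespace TIModel

variable {M : Type u} [Group M] {S : Sylow 2 M} {n i : ℕ}

theorem tiSylow [Finite M] (h : TIModel S n i) : TISylow M := by
  haveI : Fact (Nat.Prime 2) := ⟨Nat.prime_two⟩
  intro A B x hx hA hB
  obtain ⟨g, hg⟩ := MulAction.exists_smul_eq M A S
  have h1 : g * x * g⁻¹ ∈ (S : Subgroup M) :=
    hg ▸ mem_smul_sylow.2 (by simpa [mul_assoc] using hA)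
  have h2 : g * x * g⁻¹ ∈ ((g • B : Sylow 2 M) : Subgroup M) :=
    mem_smul_sylow.2 (by simpa [mul_assoc] using hB)
  have := h.ti (g • B) _ (by rw [conj_orderOf, hx]) h1 h2
  exact (smul_left_cancel g (this.trans hg.symm)).symm

theorem tiData [Finite M] (h : TIModel S n i) : TIData S n i where
  two_le := h.two_le
  i_mem := h.i_mem
  card_sylow := h.card_sylow
  ncard_inv := h.ncard_inv
  inv_central := h.inv_central
  center_sq := h.center_sq
  trans := h.trans
  sq_sq := h.sq_sq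
  suzuki_odd := h.suzuki_odd
  suzuki_pairing := h.suzuki_pairing
  exists_other := h.exists_other
  torus := h.torus
  regular := by
    haveI : Fact (Nat.Prime 2) := ⟨Nat.prime_two⟩
    intro T T' hT hT'
    obtain ⟨R, hR⟩ := h.bruhat
    obtain ⟨u, hu, rfl⟩ := (hR T).resolve_left hT
    obtain ⟨u', hu', rfl⟩ := (hR T').resolve_left hT'
    refine ⟨⟨u' * u⁻¹, mul_mem hu' (inv_mem hu)⟩, ?_, fun s hs => ?_⟩
    · show (u' * u⁻¹) • (u • R) = u' • R
      rw [smul_smul, inv_mul_cancel_right]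
    · set d : M := (u' * u⁻¹)⁻¹ * (s : M) with hd
      have hdS : d ∈ (S : Subgroup M) := mul_mem (inv_mem (mul_mem hu' (inv_mem hu))) s.2
      have hfix : d • (u • R) = u • R := by
        have hs' : (s : M) • (u • R) = u' • R := hs
        rw [hd, mul_smul, hs', smul_smul]
        congr 1
        group
      have hdN : d ∈ normalizer (((u • R : Sylow 2 M) : Subgroup M) : Set M) :=
        Sylow.smul_eq_iff_mem_normalizer.1 hfix
      have hdT : d ∈ ((u • R : Sylow 2 M) : Subgroup M) := by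
        have h1 : zpowers d ≤ normalizer (((u • R : Sylow 2 M) : Subgroup M) : Set M) :=
          zpowers_le.2 hdN
        have hp : IsPGroup 2 (zpowers d) := S.2.to_le (zpowers_le.2 hdS)
        have h2 : d ∈ zpowers d ⊓ normalizer (((u • R : Sylow 2 M) : Subgroup M) : Set M) :=
          ⟨mem_zpowers d, hdN⟩
        exact ((hp.inf_normalizer_sylow (u • R)).le h2).2
      refine Subtype.ext ?_
      show (s : M) = u' * u⁻¹
      by_contra hne
      have hd1 : d ≠ 1 := fun e => hne (by rw [hd, inv_mul_eq_one] at e; exact e.symm)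
      obtain ⟨j, hj⟩ := IsPGroup.iff_orderOf.1 S.2 ⟨d, hdS⟩
      rw [Subgroup.orderOf_mk] at hj
      obtain _ | j := j
      · exact hd1 (orderOf_eq_one_iff.1 (by rwa [pow_zero] at hj))
      have ho : orderOf (d ^ 2 ^ j) = 2 := by
        rw [orderOf_pow' _ (pow_ne_zero _ two_ne_zero), hj,
          Nat.gcd_eq_right (pow_dvd_pow 2 j.le_succ), pow_succ,
          Nat.mul_div_cancel_left _ (Nat.two_pow_pos j)]
      exact hT (h.ti _ _ ho (pow_mem hdS _) (pow_mem hdT _))

end TIModel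

section Transport

variable {M : Type u} [Group M] {L : Type v} [Group L]

theorem TISylow.of_equiv (e : M ≃* L) (h : TISylow M) : TISylow L := by
  intro S T x hx hS hT
  have h1 := h (S.comapOfInjective e.toMonoidHom e.injective (by simp))
    (T.comapOfInjective e.toMonoidHom e.injective (by simp)) (e.symm x)
    (by rw [e.symm.orderOf_eq, hx]) (by show e (e.symm x) ∈ (S : Subgroup L); simpa using hS)
    (by show e (e.symm x) ∈ (T : Subgroup L); simpa using hT)
  refine Sylow.ext (Subgroup.ext fun y => ?_)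
  have h2 := SetLike.ext_iff.1 (congrArg (fun P : Sylow 2 M => (P : Subgroup M)) h1) (e.symm y)
  simpa using h2

theorem OneClass.of_equiv (e : M ≃* L) (h : OneClass M) : OneClass L := by
  intro x y hx hy
  have h1 := h (e.symm x) (e.symm y) (by rw [e.symm.orderOf_eq, hx]) (by rw [e.symm.orderOf_eq, hy])
  simpa using e.toMonoidHom.map_isConj h1

variable {S : Sylow 2 M} {T : Sylow 2 L} {n i : ℕ}

/-- Transport of the data along an isomorphism carrying one Sylow subgroup to the other. -/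
theorem TIData.of_equiv (e : M ≃* L) (he : ∀ x, e x ∈ (T : Subgroup L) ↔ x ∈ (S : Subgroup M))
    (h : TIData S n i) : TIData T n i := by
  have hs : ∀ y, y ∈ (T : Subgroup L) ↔ e.symm y ∈ (S : Subgroup M) := fun y => by
    rw [← he, e.apply_symm_apply]
  have hN : ∀ r, e r ∈ normalizer ((T : Subgroup L) : Set L) ↔
      r ∈ normalizer ((S : Subgroup M) : Set M) := by
    intro r
    rw [mem_set_normalizer_iff, mem_set_normalizer_iff]
    constructor
    · intro h' x
      have := h' (e x)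
      simp only [SetLike.mem_coe, ← map_inv, ← map_mul, he] at this ⊢
      exact this
    · intro h' y
      obtain ⟨x, rfl⟩ := e.surjective y
      simp only [SetLike.mem_coe, ← map_inv, ← map_mul, he]
      exact h' x
  have ho : ∀ y, orderOf (e.symm y) = orderOf y := e.symm.orderOf_eq
  have hsq : ∀ y, y * y = 1 ↔ e.symm y * e.symm y = 1 := fun y => by
    rw [← map_mul, map_eq_one_iff _ e.symm.injective]
  refine ⟨h.two_le, h.i_mem, ?_, ?_, ?_, ?_, ?_, ?_, ?_, h.suzuki_odd, ?_, ?_, ?_⟩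
  · rw [← h.card_sylow]
    exact Nat.card_congr (e.symm.toEquiv.subtypeEquiv hs)
  · rw [← h.ncard_inv, ← Set.ncard_image_of_injective _ e.injective]
    congr 1
    ext y
    simp only [Set.mem_setOf_eq, Set.mem_image]
    constructor
    · exact fun hy => ⟨e.symm y, ⟨(hs y).1 hy.1, (ho y).trans hy.2⟩, e.apply_symm_apply y⟩
    · rintro ⟨x, ⟨hx, hxo⟩, rfl⟩
      exact ⟨(he x).2 hx, (e.orderOf_eq x).trans hxo⟩
  · intro x hx hxo s hs'
    have := (h.inv_central _ ((hs x).1 hx) ((ho x).trans hxo) _ ((hs s).1 hs')).map e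
    simpa using this
  · intro x hx hc
    refine (hsq x).2 (h.center_sq _ ((hs x).1 hx) fun s hs' => ?_)
    simpa using (hc (e s) ((he s).2 hs')).map e.symm
  · intro x y hx hy hxo hyo
    obtain ⟨r, hr, hr'⟩ := h.trans _ _ ((hs x).1 hx) ((hs y).1 hy) ((ho x).trans hxo) ((ho y).trans hyo)
    exact ⟨e r, (hN r).2 hr, e.symm.injective (by simpa using hr')⟩
  · intro A A' hA hA'
    -- conjugates correspond under the isomorphism
    have hcom : ∀ P : Sylow 2 L, ∃ Q : Sylow 2 M, ∀ x, e x ∈ (P : Subgroup L) ↔ x ∈ (Q : Subgroup M) :=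
      fun P => ⟨P.comapOfInjective e.toMonoidHom e.injective (by simp), fun x => Iff.rfl⟩
    have huniq : ∀ (P : Sylow 2 L) (Q : Sylow 2 M) (P' : Sylow 2 L),
        (∀ x, e x ∈ (P : Subgroup L) ↔ x ∈ (Q : Subgroup M)) →
        (∀ x, e x ∈ (P' : Subgroup L) ↔ x ∈ (Q : Subgroup M)) → P = P' := by
      intro P Q P' hP hP'
      refine Sylow.ext (Subgroup.ext fun y => ?_)
      obtain ⟨x, rfl⟩ := e.surjective y
      rw [hP, hP']
    obtain ⟨a, ha⟩ := hcom A
    obtain ⟨a', ha'⟩ := hcom A'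
    have hiff : ∀ (s : M) (P : Sylow 2 L) (Q : Sylow 2 M),
        (∀ x, e x ∈ (P : Subgroup L) ↔ x ∈ (Q : Subgroup M)) →
        ∀ x, e x ∈ ((e s • P : Sylow 2 L) : Subgroup L) ↔ x ∈ ((s • Q : Sylow 2 M) : Subgroup M) := by
      intro s P Q hP x
      rw [mem_smul_sylow, mem_smul_sylow, ← map_inv, ← map_mul, ← map_mul, hP]
    obtain ⟨s, hs1, hs2⟩ := h.regular a a' (fun c => hA (huniq _ _ _ (c ▸ ha) he))
      (fun c => hA' (huniq _ _ _ (c ▸ ha') he))
    refine ⟨⟨e s, (he _).2 s.2⟩, huniq _ a' _ (hs1 ▸ hiff s A a ha) ha', fun t ht => ?_⟩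
    obtain ⟨x, hx⟩ := e.surjective (t : L)
    have hxS : x ∈ (S : Subgroup M) := (he x).1 (hx ▸ t.2)
    have hxa : x • a = a' := by
      refine Sylow.ext (Subgroup.ext fun z => ?_)
      rw [← hiff x A a ha, hx, show ((t : L) • A) = A' from ht, ha']
    refine Subtype.ext ?_
    show (t : L) = e s
    rw [← hx, show x = (s : M) from congrArg Subtype.val (hs2 ⟨x, hxS⟩ hxa)]
  · intro x hx
    have := congrArg e (h.sq_sq _ ((hs x).1 hx))
    simpa using this
  · intro hi hn B h1 h2 h3 a ha w hw hw2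
    have := h.suzuki_pairing hi hn (fun a w => B (e a) (e w))
      (fun a ha a' ha' w hw hw2 => by
        simpa using h1 _ ((he a).2 ha) _ ((he a').2 ha') _ ((he w).2 hw) ((hsq _).2 (by simpa using hw2)))
      (fun a ha w hw w' hw' hw2 hw'2 => by
        simpa using h2 _ ((he a).2 ha) _ ((he w).2 hw) _ ((he w').2 hw') ((hsq _).2 (by simpa using hw2))
          ((hsq _).2 (by simpa using hw'2)))
      (fun r hr ho' a ha w hw hw2 => by
        simpa using h3 _ ((hN r).2 hr) (by rwa [e.orderOf_eq]) _ ((he a).2 ha) _ ((he w).2 hw)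
          ((hsq _).2 (by simpa using hw2)))
      _ ((hs a).1 ha) _ ((hs w).1 hw) ((hsq w).1 hw2)
    simpa using this
  · obtain ⟨A, hA⟩ := h.exists_other
    refine ⟨A.comapOfInjective e.symm.toMonoidHom e.symm.injective (by simp), fun c => hA ?_⟩
    refine Sylow.ext (Subgroup.ext fun x => ?_)
    have h1 := SetLike.ext_iff.1 (congrArg (fun P : Sylow 2 L => (P : Subgroup L)) c) (e x)
    rw [he] at h1
    simpa using h1
  · obtain ⟨τ, hτ, hodd, htr, h3⟩ := h.torus
    refine ⟨e τ, (hN τ).2 hτ, by rwa [e.orderOf_eq], fun x y hx hy hxo hyo => ?_, fun hi => ?_⟩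
    · obtain ⟨j, hj⟩ := htr _ _ ((hs x).1 hx) ((hs y).1 hy) ((ho x).trans hxo) ((ho y).trans hyo)
      exact ⟨j, e.symm.injective (by simpa using hj)⟩
    obtain ⟨hH, ⟨j, hj1, hjc⟩, hfree⟩ := h3 hi
    have hcomm : ∀ j : ℕ, (∀ y ∈ (T : Subgroup L), orderOf y = 2 → Commute (e τ ^ j) y) →
        ∀ x ∈ (S : Subgroup M), orderOf x = 2 → Commute (τ ^ j) x := fun j hc x hx hxo => by
      simpa using (hc (e x) ((he x).2 hx) ((e.orderOf_eq x).trans hxo)).map e.symm
    refine ⟨fun H hHT hinv htH hnon => ?_, ⟨j, ?_, fun y hy hyo => ?_⟩, fun j hj hc y hy hyc => ?_⟩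
    · have key := hH (H.comap e.toMonoidHom) (fun x hx => (he x).1 (hHT hx))
        (fun x hx h2 => hinv _ ((he x).2 hx) (by rw [← map_mul, h2, map_one]))
        (fun x hx => by
          show e (τ * x * τ⁻¹) ∈ H
          rw [map_mul, map_mul, map_inv]
          exact htH _ hx) ?_
      · refine le_antisymm hHT fun y hy => ?_
        have h1 : e.symm y ∈ H.comap e.toMonoidHom := key.symm ▸ (hs y).1 hy
        simpa using h1
      · obtain ⟨y, hy, hy2⟩ := hnon
        exact ⟨e.symm y, by simpa using hy, fun c => hy2 ((hsq y).2 c)⟩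
    · rw [← map_pow]
      exact fun c => hj1 (e.injective (c.trans (map_one e).symm))
    · simpa using (hjc _ ((hs y).1 hy) ((ho y).trans hyo)).map e
    · refine (hsq y).2 (hfree j (fun c => hj ?_) (hcomm j hc) _ ((hs y).1 hy) ?_)
      · rw [← map_pow, c, map_one]
      · simpa using hyc.map e.symm

end Transport

/-- All the facts for a copy of a model. -/
theorem facts_of_model {M : Type v} [Group M] [Finite M] {L : Type u} [Group L] [Finite L]
    {S₀ : Sylow 2 M} {n i : ℕ} (h : TIModel S₀ n i) (f : L ≃* M) :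
    TISylow L ∧ OneClass L ∧ ∀ S : Sylow 2 L, TIData S n i := by
  haveI : Fact (Nat.Prime 2) := ⟨Nat.prime_two⟩
  refine ⟨h.tiSylow.of_equiv f.symm, (oneClass_of_sylow S₀ fun x y hx hy hxo hyo => ?_).of_equiv f.symm,
    fun S => ?_⟩
  · obtain ⟨r, -, hr⟩ := h.trans x y hx hy hxo hyo
    exact isConj_iff.2 ⟨r, hr⟩
  · let T : Sylow 2 M := S.comapOfInjective f.symm.toMonoidHom f.symm.injective (by simp)
    obtain ⟨g, hg⟩ := MulAction.exists_smul_eq M S₀ T
    have hT : ∀ x, f.symm x ∈ (S : Subgroup L) ↔ x ∈ (T : Subgroup M) := fun x => Iff.rfl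
    refine h.tiData.of_equiv ((MulAut.conj g).trans f.symm) fun x => ?_
    rw [MulEquiv.trans_apply, hT, ← hg, mem_smul_sylow]
    simp [MulAut.conj_apply, mul_assoc]

end Cfsg.Agent.CyclicSylowInter
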