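import Cfsg.Agent.Lib.Involutions.RankOne.U3.Identify.Model
import Cfsg.Agent.Lib.GoldSFour.Unitary
import Cfsg.Agent.Lib.Classical.SURegMain
import Cfsg.Agent.Lib.Classical.UnitaryCount

/-!
# The Sylow 2-subgroup of `PSU₃(2^n)` as the elements fixing an isotropic vector
-/

set_option autoImplicit false
set_option linter.style.haveILetI false
set_option linter.unusedSectionVars false

namespace Cfsg.Agent.CyclicSylowInter.KindFactsUnitary

open Matrix Cfsg.Agent.Classical Cfsg.Agent.Classical.Unitary Cfsg.Agent.Forms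
  Cfsg.Agent.Involutions.SylowPSUThree Cfsg.Agent.SimpleFacts.MinIndexPSUThree.Borel
open Cfsg.Agent.Involutions.RankOne.U3 Cfsg.Agent.Involutions.RankOne.U3.Identify

variable {F : Type} [Field F] [Fintype F] {n : ℕ}
variable (hF : Fintype.card F = (2 ^ n) ^ 2) [CharP F 2] (B : Base F n)

local notation "q" => 2 ^ n
local notation "H" => Cfsg.hermForm 3 F q
local notation "SU3" => Cfsg.SU 3 F q

include hF

theorem mem_heis_iff {u : SU3} : u ∈ heis hF B ↔ mat u *ᵥ B.e = B.e := by
  constructor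
  · intro hu
    obtain ⟨b, a, h⟩ := exists_coord hF B hu
    have hp : InHerm n (b, a) := inHerm_iff.2 h.2
    rw [(el_coord hF B hp).ext hF B h |>.symm]
    exact el_e hF B hp
  · intro hu
    have hu' : mat u *ᵥ (frame B).e = (frame B).e := hu
    set p : F × F := (phi (frame B) u ^ q, tau (frame B) u) with hpdef
    have hp : InHerm n p := by
      refine inHerm_iff.2 ?_
      show tau (frame B) u + tau (frame B) u ^ q = phi (frame B) u ^ q * (phi (frame B) u ^ q) ^ q
      rw [tau_add_conj hF (frame B) hu', CharTwo.neg_eq, pow_qq hF, pow_succ]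
    have hfw : mat u *ᵥ B.f = B.f - phi (frame B) u ^ q • B.w + tau (frame B) u • B.e :=
      unip_f hF (frame B) hu'
    have hww : mat u *ᵥ B.w = B.w + phi (frame B) u • B.e := unip_w hF (frame B) hu'
    have e : u = el hF B p := by
      refine Cfsg.Agent.SimpleFacts.MinIndexPSUThree.Borel.ext hF (frame B) ?_ ?_ ?_
      · show mat u *ᵥ B.e = mat (el hF B p) *ᵥ B.e
        rw [el_e hF B hp, hu]
      · show mat u *ᵥ B.f = mat (el hF B p) *ᵥ B.f
        rw [el_f hF B hp, hfw, sub_eq_add_neg, ← neg_smul, CharTwo.neg_eq]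
      · show mat u *ᵥ B.w = mat (el hF B p) *ᵥ B.w
        rw [el_w hF B hp, hww, pow_qq hF]
    rw [e]
    exact IsCoord.mem hF B (el_coord hF B hp)

/-- Elements fixing the point normalise the group. -/
theorem conj_mem_heis {k u : SU3} {a : F} (hk : mat k *ᵥ B.e = a • B.e) (hu : u ∈ heis hF B) :
    k * u * k⁻¹ ∈ heis hF B :=
  (mem_heis_iff hF B).2 (phi_conj hF (frame B) hk ((mem_heis_iff hF B).1 hu)).1

/-- The elements of order at most two are the ones with `phi = 0`. -/
theorem phi_eq_zero_iff {s : heis hF B} :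
    phi (frame B) (s : SU3) = 0 ↔ s * s = 1 := by
  obtain ⟨b, a, h⟩ := exists_coord hF B s.2
  have hp : InHerm n (b, a) := inHerm_iff.2 h.2
  rw [mul_self_eq_one hF B h, h.ext hF B (el_coord hF B hp)]
  have hw := el_w hF B hp
  have hphi : phi (frame B) (el hF B (b, a)) = b ^ q := by
    show H (mat (el hF B (b, a)) *ᵥ B.w) B.f = _
    rw [hw, H_add_left, H_smul_left, B.hwf, B.hef, zero_add, mul_one]
  rw [hphi]
  exact ⟨fun h => eq_zero_of_pow_eq_zero h, fun h => by rw [h, zero_pow (Nat.two_pow_pos n).ne']⟩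

theorem exists_diag {a : F} (ha : a ≠ 0) : ∃ k : SU3, mat k *ᵥ B.e = a • B.e :=
  SUReg.exists_torus hF (a := B.e) (z := B.w) (f := B.f) ⟨B.he, B.hf, B.hef, B.hww, B.hwe, B.hwf⟩ ha

end Cfsg.Agent.CyclicSylowInter.KindFactsUnitary
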