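import Cfsg.Agent.Lib.Classical.UnitarySimple
import Cfsg.Agent.Lib.CyclicSylowInter.KindFacts.Build
import Cfsg.Agent.Lib.CyclicSylowInter.KindFacts.UnitaryHeis

/-!
# The facts on `PSU₃(2^n)`
-/

set_option autoImplicit false
set_option linter.style.haveILetI false
set_option linter.unusedSectionVars false

namespace Cfsg.Agent.CyclicSylowInter.KindFactsUnitary

open Matrix Cfsg.Agent.Classical Cfsg.Agent.Classical.Unitary Cfsg.Agent.Forms
  Cfsg.Agent.Involutions.SylowPSUThree Cfsg.Agent.SimpleFacts.MinIndexPSUThree.Borel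
open Cfsg.Agent.Involutions.RankOne.U3 Cfsg.Agent.Involutions.RankOne.U3.Identify
open scoped Pointwise

variable {F : Type} [Field F] [Fintype F] {n : ℕ}
variable (hF : Fintype.card F = (2 ^ n) ^ 2) [CharP F 2] (B : Base F n)

local notation "q" => 2 ^ n
local notation "H" => Cfsg.hermForm 3 F q
local notation "SU3" => Cfsg.SU 3 F q
local notation "PSU3" => Cfsg.PSU 3 F q

/-- The odd part of a power. -/
theorem odd_orderOf_pow {G : Type*} [Group G] [Finite G] (x : G) :
    Odd (orderOf (x ^ 2 ^ (Nat.card G).factorization 2)) := by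
  rw [← Nat.not_even_iff_odd, even_iff_two_dvd]
  intro h
  have h1 : orderOf (x ^ 2 ^ (Nat.card G).factorization 2) ∣
      Nat.card G / 2 ^ (Nat.card G).factorization 2 := orderOf_dvd_of_pow_eq_one (by
    rw [← pow_mul, Nat.mul_div_cancel' (Nat.ordProj_dvd _ _), pow_card_eq_one'])
  exact Nat.not_dvd_ordCompl Nat.prime_two Nat.card_pos.ne' (h.trans h1)

include hF

theorem range_toPSU_mem {k : SU3} {a : F} (hk : mat k *ᵥ B.e = a • B.e) :
    ∀ x ∈ (toPSU hF B).range, QuotientGroup.mk' (Subgroup.center SU3) k * x *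
      (QuotientGroup.mk' (Subgroup.center SU3) k)⁻¹ ∈ (toPSU hF B).range := by
  rintro _ ⟨s, rfl⟩
  refine ⟨⟨k * s * k⁻¹, conj_mem_heis hF B hk s.2⟩, ?_⟩
  show QuotientGroup.mk' (Subgroup.center SU3) (k * s * k⁻¹) = _
  rw [map_mul, map_mul, map_inv]
  rfl

theorem sylow_card : Nat.card (toPSU hF B).range = 2 ^ (Nat.card PSU3).factorization 2 := by
  rw [← Nat.card_congr (MonoidHom.ofInjective (toPSU_injective hF B)).toEquiv, card_heis hF B,
    factorization_PSU hF, ← pow_mul, mul_comm]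

omit hF in
/-- An element of odd order of a `2`-group is trivial. -/
theorem eq_one_of_odd {G : Type*} [Group G] [Finite G] (S : Sylow 2 G) {x : G}
    (hx : x ∈ (S : Subgroup G)) (hodd : Odd (orderOf x)) : x = 1 := by
  haveI : Fact (Nat.Prime 2) := ⟨Nat.prime_two⟩
  obtain ⟨j, hj⟩ := IsPGroup.iff_orderOf.1 S.2 ⟨x, hx⟩
  rw [Subgroup.orderOf_mk] at hj
  obtain _ | j := j
  · exact orderOf_eq_one_iff.1 (by rwa [pow_zero] at hj)
  · rw [hj] at hodd
    exact absurd hodd (Nat.not_odd_iff_even.2 (even_two.pow_of_ne_zero (Nat.succ_ne_zero j)))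

omit hF in
theorem exists_other_of_simple {G : Type*} [Group G] [Finite G] [IsSimpleGroup G] (S : Sylow 2 G)
    (h1 : 1 < Nat.card ↥(S : Subgroup G)) (h2 : (S : Subgroup G) ≠ ⊤) : ∃ T : Sylow 2 G, T ≠ S := by
  by_contra h
  push Not at h
  haveI : (S : Subgroup G).Normal := Subgroup.normalizer_eq_top_iff.1 (eq_top_iff.2 fun g _ =>
    Sylow.smul_eq_iff_mem_normalizer.1 (h (g • S)))
  refine h2 (((IsSimpleGroup.eq_bot_or_eq_top_of_normal _ inferInstance)).resolve_left fun e => ?_)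
  rw [e, Subgroup.card_bot] at h1
  omega

omit hF [CharP F 2] in
/-- A nonzero additive subgroup closed under an element of large order is everything. -/
theorem eq_univ_of_mul_closed (A : AddSubgroup F) {c : F} (hc : ∀ z ∈ A, c * z ∈ A)
    {w : F} (hw : w ∈ A) (hw0 : w ≠ 0) (ho : ∀ m, Fintype.card F = m ^ 2 → m ≤ orderOf c)
    {m : ℕ} (hm : Fintype.card F = m ^ 2) : ∀ z, z ∈ A := by
  classical
  set R : Set F := {r | ∀ z ∈ A, r * z ∈ A} with hR
  have hmul : ∀ r ∈ R, ∀ s ∈ R, r * s ∈ R := fun r hr s hs z hz => by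
    rw [mul_assoc]; exact hr _ (hs _ hz)
  have hpow : ∀ r ∈ R, ∀ i : ℕ, r ^ i ∈ R := fun r hr i => by
    induction i with
    | zero => intro z hz; rwa [pow_zero, one_mul]
    | succ i ih => rw [pow_succ]; exact hmul _ ih _ hr
  suffices hall : ∀ r, r ∈ R by
    intro z
    simpa [div_mul_cancel₀ _ hw0] using hall (z / w) w hw
  by_contra h
  push Not at h
  obtain ⟨z, hz⟩ := h
  have hinj : Function.Injective (fun p : R × R => (p.1 : F) + z * p.2) := by
    rintro ⟨⟨r, hr⟩, ⟨s, hs⟩⟩ ⟨⟨r', hr'⟩, ⟨s', hs'⟩⟩ e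
    have e' : r + z * s = r' + z * s' := e
    by_cases hss : s = s'
    · subst hss
      obtain rfl := add_right_cancel e'
      rfl
    · exfalso
      have hne : s - s' ≠ 0 := sub_ne_zero.2 hss
      have hd : s - s' ∈ R := fun x hx => by
        rw [sub_mul]; exact A.sub_mem (hs x hx) (hs' x hx)
      have he : r' - r ∈ R := fun x hx => by
        rw [sub_mul]; exact A.sub_mem (hr' x hx) (hr x hx)
      have h1 := FiniteField.pow_card_sub_one_eq_one (s - s') hne
      have h2 : 1 < Fintype.card F := Fintype.one_lt_card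
      rw [show Fintype.card F - 1 = Fintype.card F - 2 + 1 by omega, pow_succ] at h1
      refine hz ?_
      have hzz : z = (r' - r) * (s - s') ^ (Fintype.card F - 2) := by
        calc z = z * ((s - s') ^ (Fintype.card F - 2) * (s - s')) := by rw [h1, mul_one]
          _ = z * (s - s') * (s - s') ^ (Fintype.card F - 2) := by ring
          _ = _ := by rw [show z * (s - s') = r' - r by linear_combination e']
      rw [hzz]
      exact hmul _ he _ (hpow _ hd _)
  have hcard := Fintype.card_le_of_injective _ hinj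
  rw [Fintype.card_prod, hm, ← sq] at hcard
  have hle : Fintype.card R ≤ m := Nat.pow_le_pow_iff_left two_ne_zero |>.1 hcard
  by_cases hc0 : c = 0
  · have := ho m hm
    rw [hc0, orderOf_zero] at this
    have : 0 < m := Nat.pos_of_ne_zero fun e => by simp [e] at hm
    omega
  have hsub : insert (0 : F) ((Finset.range (orderOf c)).image (c ^ ·)) ⊆ R.toFinset := by
    intro x hx
    rw [Set.mem_toFinset]
    rcases Finset.mem_insert.1 hx with rfl | hx
    · intro z _; rw [zero_mul]; exact A.zero_mem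
    · obtain ⟨i, -, rfl⟩ := Finset.mem_image.1 hx
      exact hpow _ hc i
  have h3 := Finset.card_le_card hsub
  rw [Finset.card_insert_of_notMem, Finset.card_image_of_injOn, Finset.card_range,
    Set.toFinset_card] at h3
  · have := ho m hm
    omega
  · intro i hi j hj e
    exact pow_injOn_Iio_orderOf (by simpa using hi) (by simpa using hj) e
  · simp [hc0]

/-- The torus element with its three properties. -/
theorem torus (hn : 2 ≤ n) (S : Sylow 2 PSU3) (hS : (S : Subgroup PSU3) = (toPSU hF B).range) :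
    ∃ τ ∈ Subgroup.normalizer ((S : Subgroup PSU3) : Set PSU3), Odd (orderOf τ) ∧
    (∀ x y : PSU3, x ∈ (S : Subgroup PSU3) → y ∈ (S : Subgroup PSU3) → orderOf x = 2 → orderOf y = 2 →
      ∃ j : ℕ, τ ^ j * x * (τ ^ j)⁻¹ = y) ∧
    ((3 : ℕ) = 3 →
      (∀ K : Subgroup PSU3, K ≤ (S : Subgroup PSU3) →
        (∀ x ∈ (S : Subgroup PSU3), x * x = 1 → x ∈ K) →
        (∀ x ∈ K, τ * x * τ⁻¹ ∈ K) → (∃ x ∈ K, x * x ≠ 1) → K = (S : Subgroup PSU3)) ∧
      (∃ j : ℕ, τ ^ j ≠ 1 ∧ ∀ x ∈ (S : Subgroup PSU3), orderOf x = 2 → Commute (τ ^ j) x) ∧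
      (∀ j : ℕ, τ ^ j ≠ 1 → (∀ x ∈ (S : Subgroup PSU3), orderOf x = 2 → Commute (τ ^ j) x) →
        ∀ x ∈ (S : Subgroup PSU3), Commute (τ ^ j) x → x * x = 1)) := by
  classical
  set π : SU3 →* PSU3 := QuotientGroup.mk' (Subgroup.center SU3) with hπ
  have hinj := toPSU_injective hF B
  have hmem : ∀ x, x ∈ (S : Subgroup PSU3) ↔ ∃ s, toPSU hF B s = x := fun x => by rw [hS]; rfl
  have hin : ∀ s, toPSU hF B s ∈ (S : Subgroup PSU3) := fun s => (hmem _).2 ⟨s, rfl⟩
  have he : ∀ s : heis hF B, mat (s : SU3) *ᵥ (frame B).e = (frame B).e := fun s =>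
    (mem_heis_iff hF B).1 s.2
  have hord : ∀ s : heis hF B, orderOf (toPSU hF B s) = 2 ↔ s * s = 1 ∧ s ≠ 1 := fun s => by
    rw [orderOf_injective _ hinj, orderOf_two_iff]
  have hq4 : 4 ≤ q := le_trans (by norm_num) (Nat.pow_le_pow_right two_pos hn)
  have hqq : q ^ 2 = q * q := sq q
  obtain ⟨g, hg⟩ := IsCyclic.exists_generator (α := Fˣ)
  set N := (Nat.card PSU3).factorization 2 with hN
  have hgo : orderOf g = q ^ 2 - 1 := by
    rw [orderOf_eq_card_of_forall_mem_zpowers hg, Nat.card_units, Nat.card_eq_fintype_card, hF]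
  have hodd : Odd (q ^ 2 - 1) :=
    Nat.Even.sub_odd (Nat.one_le_pow _ _ (by omega))
      ((Nat.even_pow.2 ⟨even_two, by omega⟩).pow_of_ne_zero two_ne_zero) odd_one
  set gb := g ^ 2 ^ N with hgb
  have hgbo : orderOf gb = q ^ 2 - 1 := by
    rw [hgb, orderOf_pow' g (pow_ne_zero _ two_ne_zero), hgo,
      Nat.Coprime.gcd_eq_one (Nat.Coprime.pow_right N hodd.coprime_two_right), Nat.div_one]
  have hgen : ∀ a : F, a ≠ 0 → ∃ j : ℕ, (gb : F) ^ j = a := by
    intro a ha
    have htop : Subgroup.zpowers gb = ⊤ := Subgroup.eq_top_of_card_eq _ (by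
      rw [Nat.card_zpowers, hgbo, Nat.card_units, Nat.card_eq_fintype_card, hF])
    obtain ⟨j, hj⟩ := mem_powers_iff_mem_zpowers.2 (htop ▸ Subgroup.mem_top (Units.mk0 a ha))
    exact ⟨j, by simpa using congrArg Units.val hj⟩
  obtain ⟨T, hT⟩ := exists_diag hF B g.ne_zero
  set k := T ^ 2 ^ N with hk
  have hpw : ∀ j : ℕ, mat (T ^ j) *ᵥ B.e = ((g : F) ^ j) • B.e := by
    intro j
    induction j with
    | zero => rw [pow_zero, pow_zero, mat_one, Matrix.one_mulVec, one_smul]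
    | succ j ih => rw [pow_succ, mul_mulVec, hT, Matrix.mulVec_smul, ih, smul_smul, pow_succ']
  have hkj : ∀ j : ℕ, mat (k ^ j) *ᵥ (frame B).e = ((gb : F) ^ j) • (frame B).e := by
    intro j
    show mat ((T ^ 2 ^ N) ^ j) *ᵥ B.e = ((gb : F) ^ j) • B.e
    rw [← pow_mul, hpw, pow_mul, hgb, Units.val_pow_eq_pow_val]
  have hb0 : ∀ j : ℕ, (gb : F) ^ j ≠ 0 := fun j => pow_ne_zero _ gb.ne_zero
  -- conjugation by a power, inside the unipotent group
  have hconj : ∀ (j : ℕ) (s : heis hF B), ∃ t : heis hF B,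
      toPSU hF B t = (π k) ^ j * toPSU hF B s * ((π k) ^ j)⁻¹ ∧
      phi (frame B) (t : SU3) = ((gb : F) ^ j) ^ 2 / ((gb : F) ^ j) ^ q * phi (frame B) (s : SU3) ∧
      (phi (frame B) (s : SU3) = 0 →
        tau (frame B) (t : SU3) = ((gb : F) ^ j) ^ (q + 1) * tau (frame B) (s : SU3)) := by
    intro j s
    refine ⟨⟨k ^ j * s * (k ^ j)⁻¹, conj_mem_heis hF B (hkj j) s.2⟩, ?_,
      (phi_conj hF (frame B) (hkj j) (he s)).2, fun h0 => tau_conj hF (frame B) (hkj j) (he s) h0⟩
    rw [← map_pow, hπ]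
    show QuotientGroup.mk' _ (k ^ j * (s : SU3) * (k ^ j)⁻¹) = _
    rw [map_mul, map_mul, map_inv]
    rfl
  have data : ∀ s : heis hF B, s * s = 1 → s ≠ 1 →
      tau (frame B) (s : SU3) ≠ 0 ∧ tau (frame B) (s : SU3) ^ q = tau (frame B) (s : SU3) := by
    intro s hs hs1
    have hp := (phi_eq_zero_iff hF B).2 hs
    refine ⟨fun h => hs1 (Subtype.ext ?_), ?_⟩
    · rw [OneMemClass.coe_one]
      exact unip_ext hF (frame B) (he s) (by rw [mat_one, Matrix.one_mulVec])
        (by rw [hp, phi_one hF (frame B)]) (by rw [h, tau_one hF (frame B)])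
    · have := tau_add_conj hF (frame B) (he s)
      rw [hp, zero_pow (Nat.succ_ne_zero _), neg_zero] at this
      exact (CharTwo.add_eq_zero.1 this).symm
  have hthree : ∀ j : ℕ, ((gb : F) ^ j) ^ 2 / ((gb : F) ^ j) ^ q = 1 → q ^ 2 - 1 ∣ 3 * j := by
    intro j h
    rw [div_eq_one_iff_eq (pow_ne_zero _ (hb0 j))] at h
    have h1 : gb ^ (j * q) = gb ^ (j * 2) := Units.ext (by
      simpa [← pow_mul] using h.symm)
    rw [pow_eq_pow_iff_modEq, hgbo, Nat.modEq_iff_dvd] at h1
    have h2 : ((q ^ 2 - 1 : ℕ) : ℤ) ∣ (3 * j : ℕ) := by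
      have h3 : ((q ^ 2 - 1 : ℕ) : ℤ) = ((q : ℕ) : ℤ) ^ 2 - 1 := by
        rw [Nat.cast_sub (Nat.one_le_pow _ _ (by omega))]; push_cast; ring
      obtain ⟨d, hd⟩ := h1
      refine ⟨(j : ℤ) + d * ((q : ℕ) + 2), ?_⟩
      rw [h3] at hd ⊢
      push_cast at hd ⊢
      linear_combination ((2 : ℤ) ^ n + 2) * hd
    exact_mod_cast h2
  have hτ : π k ∈ Subgroup.normalizer ((S : Subgroup PSU3) : Set PSU3) :=
    mem_normalizer_of_conj (hS ▸ range_toPSU_mem hF B (k := k) (a := (gb : F) ^ 1)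
      (by have := hkj 1; rw [pow_one] at this; exact this))
  have hτodd : Odd (orderOf (π k)) := by rw [hk, map_pow]; exact odd_orderOf_pow (π T)
  have hcen : ∀ (j : ℕ), ((gb : F) ^ j) ^ (q + 1) = 1 →
      ∀ x ∈ (S : Subgroup PSU3), orderOf x = 2 → Commute ((π k) ^ j) x := by
    intro j h x hx hxo
    obtain ⟨s, rfl⟩ := (hmem x).1 hx
    obtain ⟨t, ht, htp, htt⟩ := hconj j s
    have hps := (phi_eq_zero_iff hF B).2 ((hord s).1 hxo).1
    have : t = s := Subtype.ext (unip_ext hF (frame B) (he t) (he s)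
      (by rw [htp, hps, mul_zero]) (by rw [htt hps, h, one_mul]))
    rw [this] at ht
    exact mul_inv_eq_iff_eq_mul.1 ht.symm
  refine ⟨π k, hτ, hτodd, fun x y hx hy hxo hyo => ?_, fun _ => ⟨?_, ?_, ?_⟩⟩
  · obtain ⟨s, rfl⟩ := (hmem x).1 hx
    obtain ⟨t, rfl⟩ := (hmem y).1 hy
    obtain ⟨hs0, hsq⟩ := data s ((hord s).1 hxo).1 ((hord s).1 hxo).2
    obtain ⟨ht0, htq⟩ := data t ((hord t).1 hyo).1 ((hord t).1 hyo).2
    obtain ⟨a, ha⟩ := UnitaryCount.exists_norm_eq hF (div_ne_zero ht0 hs0)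
      (by rw [div_pow, hsq, htq])
    have ha0 : a ≠ 0 := fun e => by
      rw [e, zero_pow (Nat.succ_ne_zero _)] at ha
      exact div_ne_zero ht0 hs0 ha.symm
    obtain ⟨j, rfl⟩ := hgen a ha0
    refine ⟨j, ?_⟩
    obtain ⟨u, hu, hup, hut⟩ := hconj j s
    have hps := (phi_eq_zero_iff hF B).2 ((hord s).1 hxo).1
    have hpt := (phi_eq_zero_iff hF B).2 ((hord t).1 hyo).1
    rw [← hu, show u = t from Subtype.ext (unip_ext hF (frame B) (he u) (he t)
      (by rw [hup, hps, hpt, mul_zero]) (by rw [hut hps, ha, div_mul_cancel₀ _ hs0]))]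
  · intro K hKS hinv hKτ hnon
    let A : AddSubgroup F :=
      { carrier := {z | ∃ s : heis hF B, toPSU hF B s ∈ K ∧ phi (frame B) (s : SU3) = z}
        zero_mem' := ⟨1, by rw [map_one]; exact one_mem _, by rw [OneMemClass.coe_one, phi_one hF]⟩
        add_mem' := by
          rintro _ _ ⟨s, hs, rfl⟩ ⟨t, ht, rfl⟩
          exact ⟨s * t, by rw [map_mul]; exact mul_mem hs ht, by
            rw [Subgroup.coe_mul, phi_mul hF (frame B) (he s) (he t)]⟩
        neg_mem' := by
          rintro _ ⟨s, hs, rfl⟩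
          exact ⟨s, hs, by rw [CharTwo.neg_eq]⟩ }
    obtain ⟨x0, hx0, hx02⟩ := hnon
    obtain ⟨s0, rfl⟩ := (hmem x0).1 (hKS hx0)
    have hall : ∀ z, z ∈ A := by
      refine eq_univ_of_mul_closed A (c := ((gb : F) ^ 1) ^ 2 / ((gb : F) ^ 1) ^ q) ?_
        (w := phi (frame B) (s0 : SU3)) ⟨s0, hx0, rfl⟩
        (fun h => hx02 (by rw [← map_mul, (phi_eq_zero_iff hF B).1 h, map_one])) ?_ hF
      · rintro _ ⟨s, hs, rfl⟩
        obtain ⟨t, ht, htp, -⟩ := hconj 1 s
        refine ⟨t, ?_, htp⟩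
        rw [ht, pow_one]
        exact hKτ _ hs
      · intro m hm
        have hmq : m = q := Nat.pow_left_injective two_ne_zero (hm.symm.trans hF)
        subst hmq
        set o := orderOf (((gb : F) ^ 1) ^ 2 / ((gb : F) ^ 1) ^ q) with ho
        have h1 := pow_orderOf_eq_one (((gb : F) ^ 1) ^ 2 / ((gb : F) ^ 1) ^ q)
        rw [← ho, div_pow, pow_one, ← pow_mul, ← pow_mul, mul_comm 2, mul_comm q, pow_mul,
          pow_mul] at h1
        have h2 := hthree o h1
        have hopos : 0 < o := by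
          rw [ho]
          exact orderOf_pos_iff.2 (isOfFinOrder_iff_pow_eq_one.2 ⟨Fintype.card F - 1,
            Nat.sub_pos_of_lt Fintype.one_lt_card, FiniteField.pow_card_sub_one_eq_one _
              (div_ne_zero (pow_ne_zero _ (hb0 1)) (pow_ne_zero _ (hb0 1)))⟩)
        have h4 := Nat.le_of_dvd (by omega) h2
        nlinarith [Nat.sub_add_cancel (Nat.one_le_pow 2 q (by omega))]
    refine le_antisymm hKS fun x hx => ?_
    obtain ⟨s, rfl⟩ := (hmem x).1 hx
    obtain ⟨t, ht, htp⟩ := hall (phi (frame B) (s : SU3))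
    have hu : phi (frame B) ((t⁻¹ * s : heis hF B) : SU3) = 0 := by
      have h := phi_mul hF (frame B) (he t) (he (t⁻¹ * s))
      rw [← Subgroup.coe_mul, mul_inv_cancel_left, htp] at h
      linear_combination -h
    have h1 := mul_mem ht (hinv _ (hin (t⁻¹ * s))
      (by rw [← map_mul, (phi_eq_zero_iff hF B).1 hu, map_one]))
    rwa [← map_mul, mul_inv_cancel_left] at h1
  · refine ⟨q - 1, fun e => ?_, hcen _ ?_⟩
    · obtain ⟨a₁, ha₁⟩ := exists_trace_eq hF (norm_fixed hF (1 : F))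
      obtain ⟨s, hs⟩ := exists_el hF B ha₁
      have hphi : phi (frame B) (s : SU3) ≠ 0 := fun h =>
        one_ne_zero ((mul_self_eq_one hF B hs).1 ((phi_eq_zero_iff hF B).1 h))
      obtain ⟨t, ht, htp, -⟩ := hconj (q - 1) s
      rw [e, one_mul, inv_one, mul_one] at ht
      rw [hinj ht] at htp
      have h1 := hthree (q - 1) (mul_right_cancel₀ hphi (by rw [one_mul, ← htp]))
      have h2 := Nat.le_of_dvd (by omega) h1
      nlinarith [Nat.sub_add_cancel (show 1 ≤ q by omega),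
        Nat.sub_add_cancel (Nat.one_le_pow 2 q (by omega))]
    · rw [← pow_mul, ← Units.val_pow_eq_pow_val,
        show (q - 1) * (q + 1) = q ^ 2 - 1 by
          rw [mul_comm, ← Nat.sq_sub_sq q 1, one_pow],
        ← hgbo, pow_orderOf_eq_one, Units.val_one]
  · intro j hj hcj x hx hxc
    by_contra hx2
    obtain ⟨s, rfl⟩ := (hmem x).1 hx
    rw [← map_mul] at hx2
    have hss : (s * s) * (s * s) = 1 := isPow_two hF B _ (sq_mem_center hF B s)
    have hne : s * s ≠ 1 := fun e => hx2 (by rw [e, map_one])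
    obtain ⟨hs0, -⟩ := data _ hss hne
    have hfix : ∀ r : heis hF B, Commute ((π k) ^ j) (toPSU hF B r) → ∀ t : heis hF B,
        toPSU hF B t = (π k) ^ j * toPSU hF B r * ((π k) ^ j)⁻¹ → t = r := fun r hr t ht =>
      hinj (by rw [ht, hr.eq, mul_inv_cancel_right])
    obtain ⟨t, ht, htp, -⟩ := hconj j s
    rw [hfix s hxc t ht] at htp
    have hphi : phi (frame B) (s : SU3) ≠ 0 := fun h =>
      hne ((phi_eq_zero_iff hF B).1 h)
    have h2 : ((gb : F) ^ j) ^ 2 / ((gb : F) ^ j) ^ q = 1 :=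
      mul_right_cancel₀ hphi (by rw [one_mul, ← htp])
    obtain ⟨t', ht', -, htt⟩ := hconj j (s * s)
    rw [hfix _ (hcj _ (hin _) ((hord _).2 ⟨hss, hne⟩)) t' ht'] at htt
    set β := (gb : F) ^ j with hβ
    have hn1 : β ^ (q + 1) = 1 :=
      mul_right_cancel₀ hs0 (by rw [one_mul, ← htt ((phi_eq_zero_iff hF B).2 hss)])
    rw [div_eq_one_iff_eq (pow_ne_zero _ (hb0 j))] at h2
    have h3 : β ^ 3 = 1 := by rw [pow_succ, h2, ← pow_succ, hn1]
    let z : SU3 := suMk (β⁻¹ • (1 : Matrix (Fin 3) (Fin 3) F))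
      (by rw [Matrix.det_smul, Fintype.card_fin, Matrix.det_one, mul_one, inv_pow, h3, inv_one])
      (fun x y => by
        rw [Matrix.smul_mulVec, Matrix.smul_mulVec, Matrix.one_mulVec, Matrix.one_mulVec,
          H_smul_left, H_smul_right, ← mul_assoc, ← pow_succ', inv_pow, hn1, inv_one, one_mul])
    have hz : π z = 1 := by
      rw [hπ, QuotientGroup.mk'_apply, QuotientGroup.eq_one_iff]
      exact (mem_center_iff hF (by norm_num) z).2 ⟨_, rfl⟩
    have hu : k ^ j * z ∈ heis hF B := by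
      refine (mem_heis_iff hF B).2 ?_
      rw [mul_mulVec, suMk_mulVec, Matrix.smul_mulVec, Matrix.one_mulVec, Matrix.mulVec_smul]
      show β⁻¹ • (mat (k ^ j) *ᵥ (frame B).e) = B.e
      rw [hkj, smul_smul, inv_mul_cancel₀ (hb0 j), one_smul]
      rfl
    refine hj (eq_one_of_odd S ?_ (hτodd.of_dvd_nat (orderOf_pow_dvd j)))
    have h4 : toPSU hF B ⟨_, hu⟩ = (π k) ^ j := by
      show π (k ^ j * z) = _
      rw [map_mul, hz, mul_one, map_pow]
    exact h4 ▸ hin _

theorem exists_model (hn : 2 ≤ n) : ∃ S : Sylow 2 PSU3, TIModel S n 3 := by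
  classical
  haveI : Fact (Nat.Prime 2) := ⟨Nat.prime_two⟩
  obtain ⟨B⟩ := exists_base (F := F) (n := n) hF
  set π : SU3 →* PSU3 := QuotientGroup.mk' (Subgroup.center SU3) with hπ
  let S : Sylow 2 PSU3 := Sylow.ofCard (toPSU hF B).range (sylow_card hF B)
  have hS : (S : Subgroup PSU3) = (toPSU hF B).range := rfl
  have hinj := toPSU_injective hF B
  have hsu : ∀ s : heis hF B, toPSU hF B s = π (s : SU3) := fun _ => rfl
  have hmem : ∀ x, x ∈ (S : Subgroup PSU3) ↔ ∃ s, toPSU hF B s = x := fun _ => Iff.rfl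
  have hin : ∀ s, toPSU hF B s ∈ (S : Subgroup PSU3) := fun s => ⟨s, rfl⟩
  -- elements fixing the point normalise
  have hfix : ∀ k : SU3, k • inf hF B = inf hF B →
      π k ∈ Subgroup.normalizer ((S : Subgroup PSU3) : Set PSU3) := by
    intro k hk
    rw [inf, smul_pt, pt_eq_pt] at hk
    obtain ⟨a, ha⟩ := hk
    exact mem_normalizer_of_conj (range_toPSU_mem hF B ha.symm)
  have hline : ∀ {k : SU3} {a : F}, mat k *ᵥ B.e = a • B.e →
      π k ∈ Subgroup.normalizer ((S : Subgroup PSU3) : Set PSU3) := fun {k a} hk =>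
    mem_normalizer_of_conj (range_toPSU_mem hF B hk)
  have hord : ∀ s : heis hF B, orderOf (toPSU hF B s) = 2 ↔ s * s = 1 ∧ s ≠ 1 := fun s => by
    rw [orderOf_injective _ hinj, orderOf_two_iff]
  refine ⟨S, hn, Or.inr (Or.inr rfl), ?_, ?_, ?_, ?_, ?_, ?_, ?_, ?_, fun h => absurd h (by norm_num),
    fun h => absurd h (by norm_num), ?_, ?_⟩
  · intro T x hx hxS hxT
    exact GoldSFour.psu_sylow_ti hF T S x hxT hxS (orderOf_two_iff.1 hx).2
  · refine ⟨π (swap hF B) • S, fun T => ?_⟩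
    obtain ⟨g, rfl⟩ := MulAction.exists_smul_eq PSU3 S T
    obtain ⟨k, rfl⟩ := QuotientGroup.mk'_surjective (Subgroup.center SU3) g
    rcases pt_cases hF B (k • inf hF B) with h | ⟨p, hp, h⟩
    · exact Or.inl (Sylow.smul_eq_iff_mem_normalizer.2 (hfix k h))
    · refine Or.inr ⟨π (el hF B p), ⟨⟨el hF B p, (el_coord hF B hp).mem hF B⟩, rfl⟩, ?_⟩
      have h1 : ((el hF B p * swap hF B)⁻¹ * k) • inf hF B = inf hF B := by
        rw [mul_smul, inv_smul_eq_iff, mul_smul, swap_inf, h]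
      show π k • S = π (el hF B p) • π (swap hF B) • S
      conv_lhs => rw [show k = el hF B p * swap hF B * ((el hF B p * swap hF B)⁻¹ * k) from
        (mul_inv_cancel_left _ _).symm]
      rw [map_mul, map_mul, mul_smul, mul_smul,
        Sylow.smul_eq_iff_mem_normalizer.2 (hfix _ h1)]
  · rw [hS, ← Nat.card_congr (MonoidHom.ofInjective hinj).toEquiv, card_heis hF B]
  · have h1 : {x : PSU3 | x ∈ (S : Subgroup PSU3) ∧ orderOf x = 2} =
        toPSU hF B '' ((Subgroup.center (heis hF B) : Set (heis hF B)) \ {1}) := by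
      ext x
      rw [Set.mem_image]
      constructor
      · rintro ⟨⟨s, rfl⟩, hxo⟩
        exact ⟨s, ⟨involution_central hF B ((hord s).1 hxo).1, ((hord s).1 hxo).2⟩, rfl⟩
      · rintro ⟨s, ⟨hs, hs1⟩, rfl⟩
        exact ⟨hin s, (hord s).2 ⟨isPow_two hF B s hs, hs1⟩⟩
    rw [h1, Set.ncard_image_of_injective _ hinj,
      Set.ncard_diff_singleton_of_mem (SetLike.mem_coe.2 (one_mem _)), ← Nat.card_coe_set_eq]
    congr 1
    exact card_center hF B
  · intro x hx hxo y hy
    obtain ⟨s, rfl⟩ := (hmem x).1 hx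
    obtain ⟨t, rfl⟩ := (hmem y).1 hy
    exact (show Commute s t from
      (Subgroup.mem_center_iff.1 (involution_central hF B ((hord s).1 hxo).1) t).symm).map _
  · intro x hx hc
    obtain ⟨s, rfl⟩ := (hmem x).1 hx
    rw [← map_mul, isPow_two hF B s (Subgroup.mem_center_iff.2 fun t => hinj (by
      rw [map_mul, map_mul]; exact (hc _ (hin t)).symm.eq)), map_one]
  · intro x y hx hy hxo hyo
    obtain ⟨s, rfl⟩ := (hmem x).1 hx
    obtain ⟨t, rfl⟩ := (hmem y).1 hy
    have data : ∀ s : heis hF B, s * s = 1 ∧ s ≠ 1 →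
        tau (frame B) (s : SU3) ≠ 0 ∧ tau (frame B) (s : SU3) ^ q = tau (frame B) (s : SU3) := by
      intro s hs
      have hse : mat (s : SU3) *ᵥ (frame B).e = (frame B).e := (mem_heis_iff hF B).1 s.2
      have hp := (phi_eq_zero_iff hF B).2 hs.1
      refine ⟨fun h => hs.2 (Subtype.ext ?_), ?_⟩
      · rw [OneMemClass.coe_one]
        exact unip_ext hF (frame B) hse (by rw [mat_one, Matrix.one_mulVec])
          (by rw [hp, phi_one hF (frame B)]) (by rw [h, tau_one hF (frame B)])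
      · have := tau_add_conj hF (frame B) hse
        rw [hp, zero_pow (Nat.succ_ne_zero _), neg_zero] at this
        exact (CharTwo.add_eq_zero.1 this).symm
    obtain ⟨hs0, hsq⟩ := data s ((hord s).1 hxo)
    obtain ⟨ht0, htq⟩ := data t ((hord t).1 hyo)
    obtain ⟨a, ha⟩ := UnitaryCount.exists_norm_eq hF (div_ne_zero ht0 hs0)
      (by rw [div_pow, hsq, htq])
    have ha0 : a ≠ 0 := fun e => by
      rw [e, zero_pow (Nat.succ_ne_zero _)] at ha
      exact div_ne_zero ht0 hs0 ha.symm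
    obtain ⟨k, hk⟩ := exists_diag hF B ha0
    refine ⟨π k, hline hk, ?_⟩
    rw [hsu, hsu, ← map_inv, ← map_mul, ← map_mul]
    congr 1
    have hse : mat (s : SU3) *ᵥ (frame B).e = (frame B).e := (mem_heis_iff hF B).1 s.2
    have hte : mat (t : SU3) *ᵥ (frame B).e = (frame B).e := (mem_heis_iff hF B).1 t.2
    have hps := (phi_eq_zero_iff hF B).2 ((hord s).1 hxo).1
    have hpt := (phi_eq_zero_iff hF B).2 ((hord t).1 hyo).1
    obtain ⟨h1, h2⟩ := phi_conj hF (frame B) (show mat k *ᵥ (frame B).e = a • (frame B).e from hk) hse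
    refine unip_ext hF (frame B) h1 hte (by rw [h2, hps, hpt, mul_zero]) ?_
    rw [tau_conj hF (frame B) (show mat k *ᵥ (frame B).e = a • (frame B).e from hk) hse hps, ha,
      div_mul_cancel₀ _ hs0]
  · intro x hx
    obtain ⟨s, rfl⟩ := (hmem x).1 hx
    rw [← map_mul, ← map_mul, isPow_two hF B _ (sq_mem_center hF B s), map_one]
  · haveI : IsSimpleGroup PSU3 := isSimpleGroup_PSU hF (le_refl 3) fun h => by
      have : 2 ^ 2 ≤ 2 ^ n := Nat.pow_le_pow_right two_pos hn
      omega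
    refine exists_other_of_simple S ?_ ?_
    · rw [hS, ← Nat.card_congr (MonoidHom.ofInjective hinj).toEquiv, card_heis hF B]
      exact Nat.one_lt_pow (by norm_num) (Nat.one_lt_pow (by omega) one_lt_two)
    · intro c
      obtain ⟨τ, -, hodd, -, h3⟩ := torus hF B hn S hS
      obtain ⟨-, ⟨j, hj, -⟩, -⟩ := h3 rfl
      exact hj (eq_one_of_odd S (c ▸ Subgroup.mem_top _) (hodd.of_dvd_nat (orderOf_pow_dvd j)))
  · exact torus hF B hn S hS

end Cfsg.Agent.CyclicSylowInter.KindFactsUnitary
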