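import Cfsg.Agent.Lib.CyclicSylowInter.KindFacts.Build
import Cfsg.Agent.Lib.PSLBinary.Exceptional

/-!
# The facts on `PSL₂(2^n)`: the translations
-/

set_option autoImplicit false
set_option linter.style.haveILetI false
set_option linter.unusedSectionVars false

namespace Cfsg.Agent.CyclicSylowInter.KindFactsPSLTwo

open Matrix Cfsg.Agent.PSLBinary
open scoped MatrixGroups Pointwise
open Cfsg.Agent.Classical.GL2 (uniSL coe_uniSL)

variable {F : Type*} [Field F] [Fintype F]

local notation "M2" => Matrix (Fin 2) (Fin 2) F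
local notation "π" => Forms.KleinPSL.pi F
local notation "PG" => Matrix.ProjectiveSpecialLinearGroup (Fin 2) F

variable (h2 : (2 : F) = 0)
include h2

theorem uni_sq (b : F) : π (uniSL b) * π (uniSL b) = 1 := by
  rw [← map_mul, Classical.GL2.uniSL_mul, show b + b = 0 by linear_combination b * h2,
    Classical.GL2.uniSL_zero, map_one]

theorem uni_eq_one {b : F} : π (uniSL b) = 1 ↔ b = 0 := by
  refine ⟨fun h => ?_, fun h => by rw [h, Classical.GL2.uniSL_zero, map_one]⟩
  have h1 := pi_injective h2 (h.trans (map_one (π)).symm)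
  have := congrArg (fun Z : SL(2, F) => (Z : M2) 0 1) h1
  simpa [coe_uniSL] using this

theorem mem_iff (S : Sylow 2 PG) (hS : (S : Subgroup PG) = unip F) {x : PG} : x ∈ (S : Subgroup PG) ↔ ∃ b : F, π (uniSL b) = x := by
  rw [hS, mem_unip]

theorem orderOf_two_uni (S : Sylow 2 PG) (hS : (S : Subgroup PG) = unip F) {x : PG} : x ∈ (S : Subgroup PG) ∧ orderOf x = 2 ↔
    ∃ b : F, b ≠ 0 ∧ π (uniSL b) = x := by
  rw [mem_iff h2 S hS, orderOf_two_iff]
  constructor
  · rintro ⟨⟨b, rfl⟩, -, h⟩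
    exact ⟨b, fun e => h ((uni_eq_one h2).2 e), rfl⟩
  · rintro ⟨b, hb, rfl⟩
    exact ⟨⟨b, rfl⟩, uni_sq h2 b, fun e => hb ((uni_eq_one h2).1 e)⟩

/-- The upper triangular elements normalise the translations. -/
theorem upper_mem_normalizer (S : Sylow 2 PG) (hS : (S : Subgroup PG) = unip F) {X : SL(2, F)} (hX : (X : M2) 1 0 = 0) :
    π X ∈ Subgroup.normalizer ((S : Subgroup PG) : Set PG) := by
  refine mem_normalizer_of_conj fun x hx => ?_
  obtain ⟨b, rfl⟩ := (mem_iff h2 S hS).1 hx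
  obtain ⟨a, -, e⟩ := eq_diag_mul_uni hX
  refine (mem_iff h2 S hS).2 ⟨(a : F) ^ 2 * b, ?_⟩
  rw [← map_inv, ← map_mul, ← map_mul, e]
  congr 1
  rw [eq_mul_inv_iff_mul_eq]
  rw [mul_assoc (diag a), Classical.GL2.uniSL_mul, add_comm, ← Classical.GL2.uniSL_mul,
    ← mul_assoc, ← diag_uni, mul_assoc]

theorem tiModel (S : Sylow 2 PG) (hS : (S : Subgroup PG) = unip F) {n : ℕ} (hn : 2 ≤ n) (hF : Fintype.card F = 2 ^ n) : TIModel S n 1 where
  two_le := hn
  i_mem := Or.inl rfl
  ti := by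
    intro T x hx hxS hxT
    haveI : Fact (Nat.Prime 2) := ⟨Nat.prime_two⟩
    obtain ⟨g, rfl⟩ := MulAction.exists_smul_eq PG S T
    obtain ⟨b, hb, rfl⟩ := (orderOf_two_uni h2 S hS).1 ⟨hxS, hx⟩
    obtain ⟨b', hb'⟩ := (mem_iff h2 S hS).1 (mem_smul_sylow.1 hxT)
    obtain ⟨X, rfl⟩ := Forms.KleinPSL.pi_surjective g
    rw [← map_inv, ← map_mul, ← map_mul] at hb'
    have h1 : X * uniSL b' = uniSL b * X := by rw [pi_injective h2 hb']; group
    have h10 : (X : M2) 1 0 = 0 := by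
      have e := congrArg (fun Z : SL(2, F) => (Z : M2) 0 0) h1
      simp [Matrix.SpecialLinearGroup.coe_mul, coe_uniSL, Matrix.mul_apply, Fin.sum_univ_two] at e
      exact e.resolve_left hb
    exact Sylow.smul_eq_iff_mem_normalizer.2 (upper_mem_normalizer h2 S hS h10)
  bruhat := by
    haveI : Fact (Nat.Prime 2) := ⟨Nat.prime_two⟩
    refine ⟨π weyl • S, fun T => ?_⟩
    obtain ⟨g, rfl⟩ := MulAction.exists_smul_eq PG S T
    obtain ⟨X, rfl⟩ := Forms.KleinPSL.pi_surjective g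
    by_cases h10 : (X : M2) 1 0 = 0
    · exact Or.inl (Sylow.smul_eq_iff_mem_normalizer.2 (upper_mem_normalizer h2 S hS h10))
    · refine Or.inr ⟨π (uniSL ((X : M2) 0 0 / (X : M2) 1 0)), (mem_iff h2 S hS).2 ⟨_, rfl⟩, ?_⟩
      set c := (X : M2) 0 0 / (X : M2) 1 0
      set U := (uniSL c * weyl)⁻¹ * X with hU
      have hU10 : (U : M2) 1 0 = 0 := by
        rw [hU]
        simp [Matrix.SpecialLinearGroup.coe_mul, coe_uniSL, coe_weyl, coe_inv_two,
          Matrix.adjugate_fin_two, Matrix.mul_apply, Fin.sum_univ_two, c]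
        field_simp
        ring
      rw [← mul_smul, ← map_mul]
      conv_lhs => rw [show X = uniSL c * weyl * U by rw [hU, mul_inv_cancel_left]]
      rw [map_mul, mul_smul, Sylow.smul_eq_iff_mem_normalizer.2 (upper_mem_normalizer h2 S hS hU10)]
  card_sylow := by rw [hS, natCard_unip h2, hF, pow_one]
  ncard_inv := by
    classical
    have h1 : {x : PG | x ∈ (S : Subgroup PG) ∧ orderOf x = 2} =
        (fun b : F => π (uniSL b)) '' ({0}ᶜ : Set F) := by
      ext x
      rw [Set.mem_image]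
      exact orderOf_two_uni h2 S hS
    rw [h1, Set.ncard_image_of_injective _ (fun b b' e => by
      have := congrArg (fun Z : SL(2, F) => (Z : M2) 0 1) (pi_injective h2 e)
      simpa [coe_uniSL] using this), Set.ncard_compl, Set.ncard_singleton,
      Nat.card_eq_fintype_card, hF]
  inv_central := by
    intro x hx _ s hs
    obtain ⟨b, rfl⟩ := (mem_iff h2 S hS).1 hx
    obtain ⟨c, rfl⟩ := (mem_iff h2 S hS).1 hs
    exact pi_commute_of (by rw [Classical.GL2.uniSL_mul, Classical.GL2.uniSL_mul, add_comm])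
  center_sq := by
    intro x hx _
    obtain ⟨b, rfl⟩ := (mem_iff h2 S hS).1 hx
    exact uni_sq h2 b
  trans := by
    intro x y hx hy hxo hyo
    obtain ⟨b, hb, rfl⟩ := (orderOf_two_uni h2 S hS).1 ⟨hx, hxo⟩
    obtain ⟨c, hc, rfl⟩ := (orderOf_two_uni h2 S hS).1 ⟨hy, hyo⟩
    obtain ⟨r, hr⟩ := exists_sq_eq h2 (c / b)
    have hr0 : r ≠ 0 := fun e => by
      rw [e, mul_zero] at hr
      exact div_ne_zero hc hb hr.symm
    refine ⟨π (diag (Units.mk0 r hr0)), upper_mem_normalizer h2 S hS (by simp [coe_diag]), ?_⟩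
    rw [← map_inv, ← map_mul, ← map_mul, diag_uni, mul_inv_cancel_right, Units.val_mk0, sq, hr,
      div_mul_cancel₀ _ hb]
  sq_sq := by
    intro x hx
    obtain ⟨b, rfl⟩ := (mem_iff h2 S hS).1 hx
    rw [uni_sq h2, mul_one]
  suzuki_odd := fun h => absurd h (by norm_num)
  suzuki_pairing := fun h => absurd h (by norm_num)
  exists_other := by
    haveI : Fact (Nat.Prime 2) := ⟨Nat.prime_two⟩
    refine ⟨π weyl • S, fun c => ?_⟩
    have hN := Sylow.smul_eq_iff_mem_normalizer.1 c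
    have h1 := (Subgroup.mem_set_normalizer_iff.1 hN (π (uniSL 1))).1 ((mem_iff h2 S hS).2 ⟨1, rfl⟩)
    obtain ⟨b, hb⟩ := (mem_iff h2 S hS).1 h1
    rw [← map_inv, ← map_mul, ← map_mul] at hb
    have h3 : uniSL b * weyl = weyl * uniSL (1 : F) := by rw [pi_injective h2 hb]; group
    have e1 := congrArg (fun Z : SL(2, F) => (Z : M2) 0 0) h3
    have e2 := congrArg (fun Z : SL(2, F) => (Z : M2) 1 1) h3
    simp [Matrix.SpecialLinearGroup.coe_mul, coe_uniSL, coe_weyl, Matrix.mul_apply,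
      Fin.sum_univ_two] at e1 e2
  torus := by
    classical
    obtain ⟨g, hg⟩ := IsCyclic.exists_generator (α := Fˣ)
    let φ : Fˣ →* SL(2, F) := { toFun := diag, map_one' := diag_one, map_mul' := fun a b => (diag_mul a b).symm }
    have hodd : Odd (orderOf (π (diag g))) := by
      refine Odd.of_dvd_nat ?_ ((orderOf_map_dvd ((π).comp φ) g).trans orderOf_dvd_card)
      rw [Fintype.card_units, hF]
      exact Nat.Even.sub_odd (Nat.one_le_two_pow) (even_two.pow_of_ne_zero (by omega)) odd_one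
    refine ⟨π (diag g), upper_mem_normalizer h2 S hS (by simp [coe_diag]), hodd, fun x y hx hy hxo hyo => ?_,
      fun h => absurd h (by norm_num)⟩
    obtain ⟨b, hb, rfl⟩ := (orderOf_two_uni h2 S hS).1 ⟨hx, hxo⟩
    obtain ⟨c, hc, rfl⟩ := (orderOf_two_uni h2 S hS).1 ⟨hy, hyo⟩
    obtain ⟨r, hr⟩ := exists_sq_eq h2 (c / b)
    have hr0 : r ≠ 0 := fun e => by
      rw [e, mul_zero] at hr
      exact div_ne_zero hc hb hr.symm
    obtain ⟨j, hj⟩ := (mem_powers_iff_mem_zpowers).2 (hg (Units.mk0 r hr0))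
    have hj' : g ^ j = Units.mk0 r hr0 := hj
    refine ⟨j, ?_⟩
    have hp : π (diag g) ^ j = π (diag (Units.mk0 r hr0)) := by
      rw [← hj', ← map_pow]
      exact congrArg (π) (map_pow φ g j).symm
    rw [hp, ← map_inv, ← map_mul, ← map_mul, diag_uni, mul_inv_cancel_right, Units.val_mk0, sq, hr,
      div_mul_cancel₀ _ hb]

theorem exists_model {n : ℕ} (hn : 2 ≤ n) (hF : Fintype.card F = 2 ^ n) :
    ∃ S : Sylow 2 PG, TIModel S n 1 := by
  obtain ⟨S, hS⟩ := exists_sylow_unip (F := F) h2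
  exact ⟨S, tiModel h2 S hS hn hF⟩

end Cfsg.Agent.CyclicSylowInter.KindFactsPSLTwo
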